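import Groth.Agent.REq2.Laurent
import Mathlib.RingTheory.FiniteType
import Mathlib.RingTheory.Localization.Away.Basic

/-!
Approximating an arc by a rational curve through the parametrisation by affine space.
-/

universe u

namespace Groth.Agent.REq2

variable {K : Type u} [Field K]

/-- The local ring of the line at the origin, as a subring of the rational functions. -/
abbrev A0 (K : Type u) [Field K] : Type u := Localization.AtPrime (m0 K)

/-- Inclusion into rational functions. -/
noncomputable def ioF (K : Type u) [Field K] : A0 K →+* FractionRing (Polynomial K) :=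
  IsLocalization.lift (M := (m0 K).primeCompl) (S := A0 K)
    (g := algebraMap (Polynomial K) (FractionRing (Polynomial K))) fun y => isUnit_iff_ne_zero.2 fun h => y.2 (by
      have h2 : (y : Polynomial K) = 0 := IsFractionRing.injective _ _ (h.trans (map_zero _).symm)
      rw [h2]; exact zero_mem _)

theorem ioF_algebraMap (p : Polynomial K) : ioF K (algebraMap _ _ p) = algebraMap _ _ p :=
  IsLocalization.lift_eq _ _

theorem ioF_injective : Function.Injective (ioF K) := by
  rw [ioF, IsLocalization.lift_injective_iff]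
  intro a b
  exact ⟨fun h => congrArg _ ((IsLocalization.injective (A0 K) (Ideal.primeCompl_le_nonZeroDivisors (m0 K))) h),
    fun h => congrArg _ (IsFractionRing.injective _ _ h)⟩

/-- Evaluation at the origin. -/
noncomputable def ev0 (K : Type u) [Field K] : A0 K →+* K :=
  IsLocalization.lift (M := (m0 K).primeCompl) (S := A0 K) (g := Polynomial.evalRingHom (0 : K))
    fun y => isUnit_iff_ne_zero.2 fun h => y.2 h

theorem ev0_algebraMap (p : Polynomial K) : ev0 K (algebraMap _ _ p) = p.eval 0 :=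
  IsLocalization.lift_eq _ _

theorem ioF_mk {r : FractionRing (Polynomial K)} {a b : Polynomial K} (hb : b.eval 0 ≠ 0)
    (hr : r * algebraMap _ _ b = algebraMap _ _ a) :
    ∃ z : A0 K, ioF K z = r ∧ ev0 K z * b.eval 0 = a.eval 0 := by
  let bb : (m0 K).primeCompl := ⟨b, fun h => hb h⟩
  refine ⟨IsLocalization.mk' _ a bb, ?_, ?_⟩
  · have hb' : algebraMap (Polynomial K) (FractionRing (Polynomial K)) b ≠ 0 := by
      rw [map_ne_zero_iff _ (IsFractionRing.injective _ _)]
      exact fun h => hb (by rw [h, Polynomial.eval_zero])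
    refine mul_right_cancel₀ hb' ?_
    rw [hr, ← ioF_algebraMap, ← ioF_algebraMap, ← map_mul, IsLocalization.mk'_spec' _ a bb |>.trans rfl |> fun e => (mul_comm _ _).trans e]
  · rw [← ev0_algebraMap, ← ev0_algebraMap, ← map_mul]
    exact congrArg (ev0 K) (IsLocalization.mk'_spec _ a bb)

theorem io_C_eq (c : K) : io K (PowerSeries.C c) = jF K (algebraMap _ _ (Polynomial.C c)) := by
  rw [jF_algebraMap, Polynomial.coe_C]

theorem exists_curve {k R : Type u} [Field k] [CommRing R] [Algebra k R] [Algebra.FiniteType k R]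
    (kK : k →+* K) {n : ℕ} (G : MvPolynomial (Fin n) k)
    (β : R →+* Localization.Away G) (hβ : ∀ c, β (algebraMap k R c) = algebraMap (MvPolynomial (Fin n) k) _ (MvPolynomial.C c))
    (w : Localization.Away G →+* LaurentSeries K) (q : R →+* PowerSeries K)
    (hq : ∀ c, q (algebraMap k R c) = PowerSeries.C (kK c))
    (hw : ∀ r, w (β r) = io K (q r)) {g : R} (hg : q g ≠ 0) :
    ∃ ψ : R →+* A0 K, (∀ c, ψ (algebraMap k R c) = algebraMap _ _ (Polynomial.C (kK c))) ∧
      (∀ r, ev0 K (ψ r) = PowerSeries.constantCoeff (q r)) ∧ ioF K (ψ g) ≠ 0 := by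
  classical
  let P := MvPolynomial (Fin n) k
  let v : Fin n → LaurentSeries K := fun i => w (algebraMap P _ (MvPolynomial.X i))
  let φ : k →+* LaurentSeries K := (io K).comp ((PowerSeries.C).comp kK)
  have hwP : w.comp (algebraMap P _) = MvPolynomial.eval₂Hom φ v := by
    refine MvPolynomial.ringHom_ext (fun c => ?_) fun i => ?_
    · rw [RingHom.comp_apply, ← hβ, hw, hq, MvPolynomial.eval₂Hom_C]
      rfl
    · rw [RingHom.comp_apply, MvPolynomial.eval₂Hom_X']
  have hG0 : MvPolynomial.eval₂Hom φ v G ≠ 0 := by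
    rw [← hwP, RingHom.comp_apply]
    exact ((IsLocalization.Away.algebraMap_isUnit G).map w).ne_zero
  have key : ∀ (z : Localization.Away G) (N : ℤ), ∃ M : ℤ, ∀ v', (∀ i, InFil M (v' i - v i)) →
      ∀ (w' : Localization.Away G →+* LaurentSeries K), w'.comp (algebraMap P _) = MvPolynomial.eval₂Hom φ v' →
        InFil N (w' z - w z) := by
    intro z N
    obtain ⟨⟨p, _, e, rfl⟩, hp⟩ := IsLocalization.surj (Submonoid.powers G) z
    change z * algebraMap P (Localization.Away G) (G ^ e) = algebraMap P (Localization.Away G) p at hp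
    have hGe : MvPolynomial.eval₂Hom φ v (G ^ e) ≠ 0 := by rw [map_pow]; exact pow_ne_zero _ hG0
    obtain ⟨M₀, h₀⟩ := close_mul (MvPolynomial.eval₂Hom φ v p) (MvPolynomial.eval₂Hom φ v (G ^ e))⁻¹ N
    obtain ⟨M₁, h₁⟩ := close_inv hGe M₀
    obtain ⟨M₂, h₂⟩ := close_eval φ v (G ^ e) M₁
    obtain ⟨M₃, h₃⟩ := close_eval φ v p M₀
    refine ⟨max M₂ M₃, fun v' h w' hw' => ?_⟩
    obtain ⟨hne, hinv⟩ := h₁ _ (h₂ v' fun i => (h i).mono (le_max_left _ _))
    have e1 : w' z = MvPolynomial.eval₂Hom φ v' p * (MvPolynomial.eval₂Hom φ v' (G ^ e))⁻¹ := by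
      rw [eq_mul_inv_iff_mul_eq₀ hne, ← hw', RingHom.comp_apply, RingHom.comp_apply, ← map_mul, hp]
    have e2 : w z = MvPolynomial.eval₂Hom φ v p * (MvPolynomial.eval₂Hom φ v (G ^ e))⁻¹ := by
      rw [eq_mul_inv_iff_mul_eq₀ hGe, ← hwP, RingHom.comp_apply, RingHom.comp_apply, ← map_mul, hp]
    rw [e1, e2]
    exact h₀ _ _ (h₃ v' fun i => (h i).mono (le_max_right _ _)) hinv
  obtain ⟨S, hS⟩ := (Algebra.FiniteType.out : (⊤ : Subalgebra k R).FG)
  choose Mf hMf using fun r : R => key (β r) 1
  obtain ⟨o, s, hs, hgs⟩ := exists_unit_form (x := io K (q g)) fun h0 => hg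
    (HahnSeries.ofPowerSeries_injective (h0.trans (map_zero _).symm))
  obtain ⟨Mg₀, hMg₀⟩ := close_inv (x := io K (q g)) (fun h0 => hg
    (HahnSeries.ofPowerSeries_injective (h0.trans (map_zero _).symm))) 0
  obtain ⟨Mg, hMg⟩ := key (β g) Mg₀
  obtain ⟨MG₀, hMG₀⟩ := close_inv hG0 0
  obtain ⟨MG, hMG⟩ := close_eval φ v G MG₀
  let T : Finset ℤ := insert Mg (insert MG (S.image Mf))
  let M := T.max' ⟨Mg, Finset.mem_insert_self _ _⟩
  have hM : ∀ m ∈ T, m ≤ M := fun m hm => Finset.le_max' _ _ hm
  choose r hr using fun i => exists_approx (v i) M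
  let φF : k →+* FractionRing (Polynomial K) := (algebraMap (Polynomial K) _).comp (Polynomial.C.comp kK)
  let EF : P →+* FractionRing (Polynomial K) := MvPolynomial.eval₂Hom φF r
  have hjE : (jF K).comp EF = MvPolynomial.eval₂Hom φ fun i => jF K (r i) := by
    refine MvPolynomial.ringHom_ext (fun c => ?_) fun i => ?_
    · simp only [EF, RingHom.comp_apply, MvPolynomial.eval₂Hom_C, φF, φ]
      exact (io_C_eq _).symm
    · simp [EF]
  have hGu : IsUnit (EF G) := by
    refine isUnit_iff_ne_zero.2 fun h0 => (hMG₀ _ (hMG _ fun i => (hr i).mono (hM _ ?_))).1 ?_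
    · simp [T]
    · rw [← hjE, RingHom.comp_apply, h0, map_zero]
  let wF : Localization.Away G →+* FractionRing (Polynomial K) := IsLocalization.Away.lift G hGu
  have hwF : ((jF K).comp wF).comp (algebraMap P _) = MvPolynomial.eval₂Hom φ fun i => jF K (r i) := by
    rw [RingHom.comp_assoc, show wF.comp (algebraMap P _) = EF from IsLocalization.Away.lift_comp G hGu, hjE]
  let θ : R →+* FractionRing (Polynomial K) := wF.comp β
  have hθk : ∀ c, θ (algebraMap k R c) = ioF K (algebraMap _ _ (Polynomial.C (kK c))) := fun c => by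
    rw [ioF_algebraMap]
    show wF (β _) = _
    rw [hβ]
    refine (IsLocalization.Away.lift_eq G hGu _).trans ?_
    exact MvPolynomial.eval₂Hom_C _ _ _
  have hall : ∀ x : R, ∃ z : A0 K, ioF K z = θ x ∧ ev0 K z = PowerSeries.constantCoeff (q x) := by
    intro x
    have hx : x ∈ Algebra.adjoin k (S : Set R) := hS ▸ Algebra.mem_top
    induction hx using Algebra.adjoin_induction with
    | mem x hx =>
      obtain ⟨u, hu⟩ := hMf x _ (fun i => (hr i).mono (hM _ (by simp [T]; exact Or.inr (Or.inr ⟨x, hx, rfl⟩)))) _ hwF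
      have e1 : jF K (θ x) = io K (q x + PowerSeries.X * u) := by
        have e2 : jF K (θ x) = (jF K (θ x) - w (β x)) + w (β x) := by ring
        rw [e2, show jF K (θ x) - w (β x) = _ from hu, hw, map_add, map_mul,
          ← pow_one (PowerSeries.X : PowerSeries K), ← tp_natCast, Nat.cast_one]
        ring
      obtain ⟨a, b, hb, hab, hab'⟩ := exists_loc e1
      obtain ⟨z, hz, hz'⟩ := ioF_mk hb hab
      refine ⟨z, hz, ?_⟩
      have h3 := congrArg PowerSeries.constantCoeff hab'
      simp only [map_mul, map_add, PowerSeries.constantCoeff_X, zero_mul, add_zero, Polynomial.constantCoeff_coe,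
        Polynomial.coeff_zero_eq_eval_zero] at h3
      rw [h3] at hz'
      exact mul_right_cancel₀ hb hz'
    | algebraMap c => exact ⟨_, (hθk c).symm, by rw [ev0_algebraMap, Polynomial.eval_C, hq, PowerSeries.constantCoeff_C]⟩
    | add x y _ _ hx hy =>
      obtain ⟨a, ha, ha'⟩ := hx; obtain ⟨b, hb, hb'⟩ := hy
      exact ⟨a + b, by rw [map_add, map_add, ha, hb], by simp only [map_add, ha', hb']⟩
    | mul x y _ _ hx hy =>
      obtain ⟨a, ha, ha'⟩ := hx; obtain ⟨b, hb, hb'⟩ := hy
      exact ⟨a * b, by rw [map_mul, map_mul, ha, hb], by simp only [map_mul, ha', hb']⟩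
  choose z hz hz' using hall
  let ψ : R →+* A0 K :=
    { toFun := z
      map_one' := ioF_injective (by rw [hz, map_one, map_one])
      map_mul' := fun x y => ioF_injective (by rw [hz, map_mul, map_mul, hz, hz])
      map_zero' := ioF_injective (by rw [hz, map_zero, map_zero])
      map_add' := fun x y => ioF_injective (by rw [hz, map_add, map_add, hz, hz]) }
  refine ⟨ψ, fun c => ioF_injective ((hz _).trans (hθk c)), hz', fun h0 => ?_⟩
  have h1 := (hMg₀ _ (by
    have := hMg _ (fun i => (hr i).mono (hM _ (by simp [T]))) _ hwF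
    rw [hw] at this
    exact this)).1
  exact h1 (show jF K (wF (β g)) = 0 by rw [show wF (β g) = 0 from (hz g).symm.trans h0, map_zero])

end Groth.Agent.REq2
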