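import Mathlib.RingTheory.Smooth.AdicCompletion
import Mathlib.RingTheory.Etale.Basic
import Mathlib.RingTheory.QuasiFinite.Basic
import Mathlib.RingTheory.Flat.TorsionFree
import Mathlib.RingTheory.Unramified.LocalStructure
import Mathlib.RingTheory.AdicCompletion.Completeness
import Mathlib.Algebra.MvPolynomial.Funext

/-!
An arc through a rational point of a smooth algebra avoiding a given hypersurface.
-/

universe u

namespace Groth.Agent.REq2

theorem exists_ne_zero_mem_span {P R : Type u} [CommRing P] [IsDomain P] [CommRing R] [IsDomain R]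
    [Algebra P R] [Algebra.Etale P R] {g : R} (hg : g ≠ 0) :
    ∃ h : P, h ≠ 0 ∧ g ∣ algebraMap P R h := by
  have hinj : Function.Injective (algebraMap P R) := by
    rw [injective_iff_map_eq_zero]
    intro a ha
    by_contra ha'
    have h1 : a • (1 : R) = 0 := by rw [Algebra.smul_def, mul_one, ha]
    exact one_ne_zero ((smul_eq_zero.1 h1).resolve_left ha')
  by_contra hcon
  push Not at hcon
  obtain ⟨Q, hQ, hle, hdisj⟩ := Ideal.exists_le_prime_disjoint (Ideal.span {g})
    ((nonZeroDivisors P).map (algebraMap P R)) (by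
      rw [Set.disjoint_left]
      rintro z hz ⟨a, ha, rfl⟩
      exact hcon a (nonZeroDivisors.ne_zero ha) (Ideal.mem_span_singleton.1 hz))
  have hQ0 : Q.under P = (⊥ : Ideal R).under P := by
    ext a
    rw [Ideal.mem_comap, Ideal.mem_comap, Ideal.mem_bot]
    refine ⟨fun ha => ?_, fun ha => ha ▸ zero_mem _⟩
    by_contra h0
    exact Set.disjoint_left.1 hdisj ha
      ⟨a, mem_nonZeroDivisors_of_ne_zero fun h => h0 (by rw [h, map_zero]), rfl⟩
  have := Algebra.QuasiFinite.eq_of_le_of_under_eq (R := P) ⊥ Q bot_le hQ0.symm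
  exact hg ((Ideal.mem_bot).1 (this ▸ hle (Ideal.mem_span_singleton_self g)))

open PowerSeries in
theorem exists_arc {k R K : Type u} [Field k] [CommRing R] [IsDomain R] [Field K] [Infinite K]
    (kR : k →+* R) (kK : k →+* K) {d : ℕ} (e : MvPolynomial (Fin d) k →+* R) (he : e.comp MvPolynomial.C = kR)
    (het : e.Etale) (x : R →+* K) (hx : x.comp kR = kK) {g : R} (hg : g ≠ 0) :
    ∃ q : R →+* PowerSeries K, q.comp kR = (PowerSeries.C).comp kK ∧ (constantCoeff).comp q = x ∧ q g ≠ 0 := by
  letI := e.toAlgebra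
  haveI : Algebra.Etale (MvPolynomial (Fin d) k) R := het
  obtain ⟨h, h0, u, hu⟩ := exists_ne_zero_mem_span (P := MvPolynomial (Fin d) k) hg
  let c : Fin d → K := fun i => x (e (MvPolynomial.X i))
  obtain ⟨v, hv⟩ : ∃ v : Fin d → K, MvPolynomial.eval₂Hom kK v h ≠ 0 := by
    by_contra! hall
    refine h0 (MvPolynomial.map_injective kK kK.injective ?_)
    rw [map_zero]
    exact MvPolynomial.funext fun v => by
      rw [map_zero, MvPolynomial.eval_map]
      exact hall v
  let ω : MvPolynomial (Fin d) k →+* Polynomial K := MvPolynomial.eval₂Hom (Polynomial.C.comp kK)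
    fun i => Polynomial.C (c i) + Polynomial.X * Polynomial.C (v i - c i)
  have hω1 : (Polynomial.evalRingHom 1).comp ω = MvPolynomial.eval₂Hom kK v := by
    refine MvPolynomial.ringHom_ext (fun r => ?_) fun i => ?_ <;> simp [ω]
  let w : MvPolynomial (Fin d) k →+* PowerSeries K := Polynomial.coeToPowerSeries.ringHom.comp ω
  have hwh : w h ≠ 0 := fun hh => hv (by
    have : ω h = 0 := Polynomial.coe_injective K (hh.trans Polynomial.coe_zero.symm)
    rw [← hω1, RingHom.comp_apply, this, map_zero])
  have hw0 : (constantCoeff).comp w = x.comp e := by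
    refine MvPolynomial.ringHom_ext (fun r => ?_) fun i => ?_
    · simp only [w, ω, RingHom.comp_apply, MvPolynomial.eval₂Hom_C]
      rw [show e (MvPolynomial.C r) = kR r from RingHom.congr_fun he r,
        show x (kR r) = kK r from RingHom.congr_fun hx r]
      simp
    · simp [w, ω, c]
  letI := w.toAlgebra
  let I : Ideal (PowerSeries K) := Ideal.span {PowerSeries.X}
  let f : R →ₐ[MvPolynomial (Fin d) k] PowerSeries K ⧸ I :=
    { (Ideal.Quotient.mk I).comp ((PowerSeries.C).comp x) with
      commutes' := fun p => by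
        refine Ideal.Quotient.eq.2 (Ideal.mem_span_singleton.2 (PowerSeries.X_dvd_iff.2 ?_))
        show constantCoeff (PowerSeries.C (x (e p)) - w p) = 0
        rw [map_sub, constantCoeff_C, ← RingHom.comp_apply x e, ← hw0, RingHom.comp_apply, sub_self] }
  haveI : IsAdicComplete I (PowerSeries K) := by infer_instance
  obtain ⟨q, hq⟩ := Algebra.FormallySmooth.exists_mkₐ_comp_eq_of_isAdicComplete f
  refine ⟨q.toRingHom, ?_, ?_, fun h0' => hwh ?_⟩
  · ext r
    rw [RingHom.comp_apply, ← he, RingHom.comp_apply]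
    show PowerSeries.coeff _ (q (algebraMap (MvPolynomial (Fin d) k) R (MvPolynomial.C r))) = _
    rw [AlgHom.commutes]
    show PowerSeries.coeff _ (w (MvPolynomial.C r)) = _
    simp [w, ω]
  · ext r
    have := Ideal.Quotient.eq.1 (AlgHom.congr_fun hq r : Ideal.Quotient.mk I (q r) = Ideal.Quotient.mk I (PowerSeries.C (x r)))
    have h2 := PowerSeries.X_dvd_iff.1 (Ideal.mem_span_singleton.1 this)
    rwa [map_sub, sub_eq_zero, RingHom.comp_apply, constantCoeff_C] at h2
  · have h0'' : q g = 0 := h0'
    have : q (algebraMap (MvPolynomial (Fin d) k) R h) = w h := q.commutes h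
    rw [← this, hu, map_mul, h0'', zero_mul]

end Groth.Agent.REq2
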