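import Groth.Agent.REq2.FormVal
import Mathlib.AlgebraicGeometry.FunctionField
import Mathlib.AlgebraicGeometry.Morphisms.Smooth
import Mathlib.RingTheory.Smooth.StandardSmoothCotangent
import Mathlib.RingTheory.Etale.Kaehler

/-!
Derivations of the function field detect tensors of differential forms.
-/

universe u

open CategoryTheory AlgebraicGeometry TopologicalSpace Opposite
open scoped TensorProduct

set_option backward.isDefEq.respectTransparency false
set_option backward.isDefEq.respectTransparency.types false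

namespace Groth.Agent.REq2

open Groth.Agent.AModX

variable {k : Type u} [Field k] {X : Scheme.{u}} (f : X ⟶ Spec (CommRingCat.of k)) [IsIntegral X]

/-- Into the function field. -/
noncomputable abbrev chiGen (q : X) : X.presheaf.stalk q →+* X.functionField :=
  (X.presheaf.stalkSpecializes (genericPoint_specializes q)).hom

theorem chiV_chiGen (V : X.Opens) [Nonempty V] {q : X} (hq : q ∈ V) (r : Γ(X, V)) :
    chiV (chiGen q) V hq r = algebraMap Γ(X, V) X.functionField r := by
  show (X.presheaf.stalkSpecializes _) (X.presheaf.germ V q hq r) = _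
  rw [X.presheaf.germ_stalkSpecializes_apply]
  rfl

variable [Algebra k X.functionField]
  (hK : OverK f (RingHom.id (X.presheaf.stalk (genericPoint X) : Type u)) (A := X.functionField))

omit hK in
theorem overK_gen (hK : ∀ c, X.presheaf.germ ⊤ (genericPoint X) trivial (cst f ⊤ c) = algebraMap k X.functionField c)
    (q : X) : OverK f (chiGen q) := fun c => by
  rw [← hK]
  exact X.presheaf.germ_stalkSpecializes_apply _ _ _

variable {i : ℕ} {L : X.Modules}
  (φ : ∀ U : X.affineOpens, (L.val.obj (op U.1)) ≃ₗ[Γ(X, U.1)]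
    ↥(⋀[Γ(X, U.1)]^i ((Omega.sheaf f).val.obj (op U.1))))
  (hφ : PhiComp f φ) [QuasiSeparated f] [Smooth f]

theorem exists_duals (q : X) (hχ : OverK f (chiGen q)) :
    ∃ (J : Type) (_ : Fintype J) (b : J → stk L q) (E : J → Fin i → Derivation k X.functionField X.functionField),
      Submodule.span (X.presheaf.stalk q) (Set.range b) = ⊤ ∧
      (∀ s, (extVal f φ hφ hχ (E s)).toHom (b s) = 1) ∧
      ∀ s t, s ≠ t → (extVal f φ hφ hχ (E s)).toHom (b t) = 0 := by
  classical
  obtain ⟨U, hU, W, hW, hqW, e, hstd⟩ := Smooth.exists_isStandardSmooth f q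
  obtain rfl : U = ⊤ := by
    refine Opens.ext (Set.eq_univ_of_forall fun y => ?_)
    have : Subsingleton (Spec (CommRingCat.of k)) := inferInstanceAs (Subsingleton (PrimeSpectrum k))
    rw [Subsingleton.elim y (f q)]
    exact e hqW
  haveI : Nonempty W := ⟨⟨q, hqW⟩⟩
  haveI : IsDomain Γ(X, W) := IsIntegral.component_integral W
  letI := (f.appLE ⊤ W e).hom.toAlgebra
  letI : Algebra Γ(Spec (CommRingCat.of k), ⊤) X.functionField :=
    ((algebraMap Γ(X, W) X.functionField).comp (f.appLE ⊤ W e).hom).toAlgebra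
  haveI : IsScalarTower Γ(Spec (CommRingCat.of k), ⊤) Γ(X, W) X.functionField := IsScalarTower.of_algebraMap_eq' rfl
  haveI : Algebra.IsStandardSmooth Γ(Spec (CommRingCat.of k), ⊤) Γ(X, W) := hstd
  haveI : IsFractionRing Γ(X, W) X.functionField := functionField_isFractionRing_of_isAffineOpen X W hW
  haveI : Algebra.FormallyEtale Γ(X, W) X.functionField :=
    Algebra.FormallyEtale.of_isLocalization (nonZeroDivisors Γ(X, W))
  obtain ⟨d, ⟨b⟩⟩ : ∃ d, Nonempty (Module.Basis (Fin d) Γ(X, W) Ω[Γ(X, W)⁄Γ(Spec (CommRingCat.of k), ⊤)]) :=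
    ⟨_, ⟨Module.finBasis _ _⟩⟩
  obtain ⟨ψ, hψ, hψd⟩ := OmegaUniv.exists_retraction f hW hU (e := e)
  -- ψ is bijective
  have hψs : ∀ z, ψ ((OmAff.toSect f ⊤ W e).hom z) = z := fun z => by
    have hz : z ∈ Submodule.span Γ(X, W) (Set.range (KaehlerDifferential.D Γ(Spec (CommRingCat.of k), ⊤) Γ(X, W))) := by
      rw [KaehlerDifferential.span_range_derivation]; trivial
    induction hz using Submodule.span_induction with
    | mem y hy =>
      obtain ⟨r, rfl⟩ := hy
      exact (congrArg ψ (OmAff.toSect_d f ⊤ W e r)).trans (hψd r)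
    | zero => rw [map_zero, map_zero]
    | add y y' _ _ h h' => rw [map_add, map_add, h, h']
    | smul r y _ h => rw [map_smul]; exact (hψ r _).trans (congrArg (r • ·) h)
  have hψinj : Function.Injective ψ := fun m m' h => by
    obtain ⟨z, rfl⟩ := (OmegaUniv.toSect_bijective f hW hU e).2 m
    obtain ⟨z', rfl⟩ := (OmegaUniv.toSect_bijective f hW hU e).2 m'
    rw [hψs, hψs] at h
    rw [h]
  let ee : Fin d → Γ(Omega.sheaf f, W) := fun j => (OmAff.toSect f ⊤ W e).hom (b j)
  have hee : ∀ j, ψ (ee j) = b j := fun j => hψs _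
  -- derivations of the function field
  have hE : ∀ j, ∃ D : Derivation k X.functionField X.functionField, ∀ r : Γ(X, W),
      D (algebraMap Γ(X, W) X.functionField r) =
        algebraMap Γ(X, W) X.functionField (b.coord j (KaehlerDifferential.D _ _ r)) := fun j => by
    have hbc := KaehlerDifferential.isBaseChange_of_formallyEtale Γ(Spec (CommRingCat.of k), ⊤) Γ(X, W) X.functionField
    let g : Ω[Γ(X, W)⁄Γ(Spec (CommRingCat.of k), ⊤)] →ₗ[Γ(X, W)] X.functionField :=
      (Algebra.linearMap Γ(X, W) X.functionField).comp (b.coord j)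
    let ℓ := hbc.lift g
    refine ⟨Derivation.mk'
      { toFun := fun x => ℓ (KaehlerDifferential.D Γ(Spec (CommRingCat.of k), ⊤) X.functionField x)
        map_add' := fun x y => by simp only [map_add]
        map_smul' := fun c x => by
          have hc : algebraMap k X.functionField c = algebraMap Γ(Spec (CommRingCat.of k), ⊤) X.functionField
              ((Scheme.ΓSpecIso (CommRingCat.of k)).inv c) := by
            rw [← hχ c, ← germ_cst f W hqW]
            exact chiV_chiGen W hqW (cst f W c)
          rw [RingHom.id_apply, Algebra.smul_def, hc, ← Algebra.smul_def, Derivation.map_smul, LinearMap.map_smul_of_tower,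
            Algebra.smul_def, ← hc, ← Algebra.smul_def] }
      (fun x y => by
        show ℓ (KaehlerDifferential.D _ _ (x * y)) = x * ℓ _ + y * ℓ _
        rw [Derivation.leibniz, map_add, map_smul, map_smul, smul_eq_mul, smul_eq_mul]), fun r => ?_⟩
    show ℓ (KaehlerDifferential.D _ _ (algebraMap Γ(X, W) X.functionField r)) = _
    rw [← KaehlerDifferential.map_D Γ(Spec (CommRingCat.of k), ⊤) Γ(Spec (CommRingCat.of k), ⊤)]
    exact hbc.lift_eq g _
  choose D hD using hE
  have hval : ∀ j (m : Γ(Omega.sheaf f, W)), (omegaVal f hχ (D j)).toHom (gS _ W hqW m) =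
      algebraMap Γ(X, W) X.functionField (b.coord j (ψ m)) := fun j m =>
    omega_hom_ext f ⟨W, hW⟩ (chiV (chiGen q) W hqW) (δ := (omegaVal f hχ (D j)).toHom.comp (gS _ W hqW))
      (δ' := (algebraMap Γ(X, W) X.functionField).toAddMonoidHom.comp ((b.coord j).toAddMonoidHom.comp ψ))
      (fun r m => by
        show (omegaVal f hχ (D j)).toHom (gS _ W hqW (r • m)) = _
        rw [gS_smul, Val.map_smul]; rfl)
      (fun r m => by
        show algebraMap Γ(X, W) X.functionField (b.coord j (ψ (r • m))) = _
        rw [hψ, map_smul, smul_eq_mul, map_mul, chiV_chiGen W hqW r]; rfl)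
      (fun r => by
        show (omegaVal f hχ (D j)).toHom (gS _ W hqW (OmegaSh.dSect f W r)) = _
        rw [omegaVal_d f hχ (D j) ⟨W, hW⟩ hqW, chiV_chiGen W hqW, hD, ← hψd]; rfl) m
  let σ := fun s : Set.powersetCard (Fin d) i => Set.powersetCard.ofFinEmbEquiv.symm s
  refine ⟨Set.powersetCard (Fin d) i, inferInstance, fun s => gS L W hqW (wed f φ ⟨W, hW⟩ (fun j => ee (σ s j))),
    fun s l => D (σ s l), ?_, ?_⟩
  · rw [eq_top_iff]
    intro x _
    obtain ⟨V, hV, hqV, t, hVW, rfl⟩ := exists_affine_rep hqW x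
    obtain ⟨h, hhV, hqh⟩ := hW.exists_basicOpen_le (V := V) ⟨q, hqV⟩ hqW
    let V' : X.affineOpens := ⟨X.basicOpen h, hW.basicOpen h⟩
    have hle : V'.1 ≤ W := X.basicOpen_le h
    rw [← gS_res hhV hqh t]
    let ρe : Fin d → Γ(Omega.sheaf f, V'.1) := fun j => res _ hle (ee j)
    have hspW : ∀ m : Γ(Omega.sheaf f, W), res (Omega.sheaf f) hle m ∈ Submodule.span Γ(X, V'.1) (Set.range ρe) := by
      intro m
      have hm : m = ∑ j, b.coord j (ψ m) • ee j := hψinj (by
        rw [map_sum]
        refine (b.sum_repr (ψ m)).symm.trans (Finset.sum_congr rfl fun j _ => ?_)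
        rw [hψ, hee]; rfl)
      rw [hm, map_sum]
      exact Submodule.sum_mem _ fun j _ => by
        rw [res_smul]; exact Submodule.smul_mem _ _ (Submodule.subset_span ⟨j, rfl⟩)
    have hspan : Submodule.span Γ(X, V'.1) (Set.range fun j => (show (Omega.sheaf f).val.obj (op V'.1) from ρe j)) = ⊤ := by
      rw [eq_top_iff]
      intro m _
      show (show Γ(Omega.sheaf f, V'.1) from m) ∈ Submodule.span Γ(X, V'.1) (Set.range ρe)
      refine Submodule.span_le.2 ?_ ((OmegaUniv.good_of_affine f V'.2 hU le_top).1 m)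
      rintro _ ⟨c, rfl⟩
      haveI := hW.isLocalization_basicOpen h
      obtain ⟨⟨a, _, n, rfl⟩, hac⟩ := IsLocalization.surj (Submonoid.powers h) (S := Γ(X, X.basicOpen h)) c
      change c * resR hle (h ^ n) = resR hle a at hac
      have hd := congrArg (OmegaSh.dSect f V'.1) hac
      have hmap : ∀ y : Γ(X, W), OmegaSh.dSect f V'.1 (resR hle y) =
          res (Omega.sheaf f) hle (OmegaSh.dSect f W y) := fun y => OmegaSh.dSect_map f hle y
      rw [OmegaSh.dSect_mul, hmap, hmap] at hd
      have hu : IsUnit (resR hle (h ^ n)) := by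
        rw [map_pow]; exact (RingedSpace.isUnit_res_basicOpen _ h).pow n
      obtain ⟨w, hw⟩ := hu.exists_left_inv
      have hmem : resR hle (h ^ n) • OmegaSh.dSect f V'.1 c ∈ Submodule.span Γ(X, V'.1) (Set.range ρe) := by
        rw [eq_sub_of_add_eq' hd]
        exact Submodule.sub_mem _ (hspW _) (Submodule.smul_mem _ _ (hspW _))
      have := Submodule.smul_mem _ w hmem
      rw [← mul_smul, hw, one_smul] at this
      exact this
    have hspanL := exteriorPower.ιMulti_family_span_of_span (n := i) Γ(X, V'.1) hspan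
    have hz : ∀ (s : Γ(L, V'.1)), gS L V'.1 hqh s ∈ Submodule.span (X.presheaf.stalk q)
        (Set.range fun s => gS L W hqW (wed f φ ⟨W, hW⟩ (fun j => ee (σ s j)))) := by
      intro s
      obtain ⟨z, rfl⟩ := (φ V').symm.surjective s
      have hmem : z ∈ Submodule.span Γ(X, V'.1) (Set.range (exteriorPower.ιMulti_family Γ(X, V'.1) i
          fun j => (show (Omega.sheaf f).val.obj (op V'.1) from ρe j))) := by rw [hspanL]; trivial
      induction hmem using Submodule.span_induction with
      | mem y hy =>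
        obtain ⟨s, rfl⟩ := hy
        refine Submodule.subset_span ⟨s, ?_⟩
        show gS L W hqW _ = gS L V'.1 hqh (wed f φ V' fun j => ρe (σ s j))
        rw [← res_wed f φ hφ (U := ⟨W, hW⟩) hle, gS_res]
      | zero => rw [map_zero, map_zero]; exact zero_mem _
      | add a a' _ _ ha ha' => rw [map_add, map_add]; exact add_mem ha ha'
      | smul r y _ hy =>
        rw [map_smul]
        show gS L V'.1 hqh (r • (show Γ(L, V'.1) from (φ V').symm y)) ∈ _
        rw [gS_smul]
        exact Submodule.smul_mem _ _ hy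
    exact hz _
  · have key : ∀ s t, (extVal f φ hφ hχ fun l => D (σ s l)).toHom
        (gS L W hqW (wed f φ ⟨W, hW⟩ fun j => ee (σ t j))) =
        algebraMap Γ(X, W) X.functionField (exteriorPower.ιMultiDual Γ(X, W) i b s
          (exteriorPower.ιMulti_family Γ(X, W) i b t)) := fun s t => by
      rw [extVal_wed f φ hφ hχ _ ⟨W, hW⟩ hqW, exteriorPower.ιMulti_family, exteriorPower.ιMultiDual_apply_ιMulti,
        RingHom.map_det]
      congr 1
      ext j l
      rw [Matrix.of_apply, hval, hee]
      rfl
    exact ⟨fun s => by rw [key, exteriorPower.ιMultiDual_apply_diag, map_one],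
      fun s t hst => by rw [key, exteriorPower.ιMultiDual_apply_nondiag _ _ _ _ _ hst, map_zero]⟩

theorem detect (q : X) (hχ : OverK f (chiGen q)) :
    ∀ (m : ℕ) (z : stk (CohB1.tensorPow L m) q),
      (∀ D : ℕ → Fin i → Derivation k X.functionField X.functionField, (powVal f φ hφ hχ m D).toHom z = 0) → z = 0 := by
  classical
  have hinj : Function.Injective (chiGen q) := IsFractionRing.injective (X.presheaf.stalk q) X.functionField
  intro m
  induction m with
  | zero =>
    intro z hz
    obtain ⟨V, hV, hqV, s, -, rfl⟩ := exists_affine_rep (W := ⊤) trivial z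
    have h0 := hz fun _ _ => 0
    have h0' : chiGen q (X.presheaf.germ V q hqV (show Γ(X, V) from s)) = 0 :=
      (powVal_zero f φ hφ hχ (fun _ _ => 0) ⟨V, hV⟩ hqV (show Γ(X, V) from s)).symm.trans h0
    have h1 : s = (show Γ(X, V) from s) • (show Γ(Coh.structureModule X, V) from (1 : Γ(X, V))) :=
      (mul_one (show Γ(X, V) from s)).symm
    rw [h1]
    refine (gS_smul hqV _ (show Γ(Coh.structureModule X, V) from (1 : Γ(X, V)))).trans ?_
    rw [hinj (h0'.trans (map_zero _).symm), zero_smul]
  | succ m ih =>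
    intro z hz
    obtain ⟨J, hJ, b, E, hspan, hdiag, hoff⟩ := exists_duals f φ hφ q hχ
    obtain ⟨T, hT⟩ := exists_tensorEquiv (M := CohB1.tensorPow L m) (N := L) (q := q)
    have hrep : ∀ w : (stk (CohB1.tensorPow L m) q) ⊗[X.presheaf.stalk q] (stk L q),
        ∃ x : J → stk (CohB1.tensorPow L m) q, w = ∑ j, x j ⊗ₜ b j := fun w => by
      induction w with
      | zero => exact ⟨0, by simp⟩
      | add a a' ha ha' =>
        obtain ⟨x, rfl⟩ := ha
        obtain ⟨x', rfl⟩ := ha'
        exact ⟨x + x', by simp [TensorProduct.add_tmul, Finset.sum_add_distrib]⟩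
      | tmul a c =>
        obtain ⟨r, hr⟩ := (Submodule.mem_span_range_iff_exists_fun _).1 (show c ∈ Submodule.span _ (Set.range b) by
          rw [hspan]; trivial)
        exact ⟨fun j => r j • a, by rw [← hr, TensorProduct.tmul_sum]; simp [TensorProduct.tmul_smul, TensorProduct.smul_tmul']⟩
    obtain ⟨x, hx⟩ := hrep (T.symm z)
    have hz' : z = ∑ j, T (x j ⊗ₜ b j) := by rw [← map_sum, ← hx, LinearEquiv.apply_symm_apply]
    have hcons : ∀ (D : ℕ → Fin i → Derivation k X.functionField X.functionField) (j₀ : J),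
        (powVal f φ hφ hχ (m + 1) (fun n => Nat.casesOn n (E j₀) D)).toHom z =
          (powVal f φ hφ hχ m D).toHom (x j₀) := fun D j₀ => by
      rw [hz', map_sum, Finset.sum_eq_single j₀]
      · obtain ⟨V, hV, hqV, s, t, hs, ht⟩ := exists_gS_pair (x j₀) (b j₀)
        rw [← hs, ← ht, hT]
        refine (powVal_succ f φ hφ hχ m _ V hqV s t).trans ?_
        rw [ht]
        show _ * (extVal f φ hφ hχ (E j₀)).toHom (b j₀) = _
        rw [hdiag, mul_one]
      · intro j _ hj
        obtain ⟨V, hV, hqV, s, t, hs, ht⟩ := exists_gS_pair (x j) (b j)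
        rw [← hs, ← ht, hT]
        refine (powVal_succ f φ hφ hχ m _ V hqV s t).trans ?_
        rw [ht]
        show _ * (extVal f φ hφ hχ (E j₀)).toHom (b j) = _
        rw [hoff _ _ (Ne.symm hj), mul_zero]
      · intro h; exact absurd (Finset.mem_univ j₀) h
    rw [hz']
    refine Finset.sum_eq_zero fun j _ => ?_
    rw [ih (x j) fun D => (hcons D j).symm.trans (hz _), TensorProduct.zero_tmul, map_zero]

end Groth.Agent.REq2
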