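import Groth.Agent.REq2.StalkVal
import Groth.Agent.OmegaUniv.ToSectIso
import Groth.Prelude.Def_ExtPow2
import Mathlib.LinearAlgebra.ExteriorPower.Basis
import Mathlib.LinearAlgebra.Matrix.Determinant.Basic

/-!
Values of differential forms along a point with a tuple of derivations.
-/

universe u

open CategoryTheory AlgebraicGeometry TopologicalSpace Opposite

set_option backward.isDefEq.respectTransparency false
set_option backward.isDefEq.respectTransparency.types false

namespace Groth.Agent.REq2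

open Groth.Agent.AModX

variable {k : Type u} [Field k] {X : Scheme.{u}} (f : X ⟶ Spec (CommRingCat.of k))

/-- Constants. -/
noncomputable def cst (V : X.Opens) : k →+* Γ(X, V) :=
  (f.appLE ⊤ V le_top).hom.comp (Scheme.ΓSpecIso (CommRingCat.of k)).inv.hom

theorem cst_res {U V : X.Opens} (h : V ≤ U) (c : k) : resR h (cst f U c) = cst f V c :=
  ConcreteCategory.congr_hom (f.appLE_map (U := ⊤) (V := U) le_top (homOfLE h).op) _

theorem germ_cst (V : X.Opens) {q : X} (hq : q ∈ V) (c : k) :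
    X.presheaf.germ V q hq (cst f V c) = X.presheaf.germ ⊤ q trivial (cst f ⊤ c) := by
  rw [← cst_res f (le_top : V ≤ ⊤)]
  exact InvX.germ_resR' _ _ _

/-- A point over k with values in a k-algebra. -/
def OverK {q : X} {A : Type u} [CommRing A] [Algebra k A] (χ : X.presheaf.stalk q →+* A) : Prop :=
  ∀ c, χ (X.presheaf.germ ⊤ q trivial (cst f ⊤ c)) = algebraMap k A c

section

variable {q : X} {A : Type u} [CommRing A] [Algebra k A] {χ : X.presheaf.stalk q →+* A}

/-- The point on an open. -/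
noncomputable def chiV (χ : X.presheaf.stalk q →+* A) (V : X.Opens) (hq : q ∈ V) : Γ(X, V) →+* A :=
  χ.comp (X.presheaf.germ V q hq).hom

theorem chiV_res {U V : X.Opens} (h : V ≤ U) (hq : q ∈ V) (r : Γ(X, U)) :
    chiV χ V hq (resR h r) = chiV χ U (h hq) r :=
  congrArg χ (InvX.germ_resR' h hq r)

theorem exists_delta [QuasiSeparated f] (hχ : OverK f χ) (D : Derivation k A A) (V : X.affineOpens) (hq : q ∈ V.1) :
    ∃ δ : Γ(Omega.sheaf f, V.1) →+ A, (∀ r m, δ (r • m) = chiV χ V.1 hq r * δ m) ∧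
      ∀ b, δ (OmegaSh.dSect f V.1 b) = D (chiV χ V.1 hq b) := by
  letI := (f.appLE ⊤ V.1 le_top).hom.toAlgebra
  letI : Algebra Γ(X, V.1) A := (chiV χ V.1 hq).toAlgebra
  letI : Algebra Γ(Spec (CommRingCat.of k), ⊤) A := ((chiV χ V.1 hq).comp (f.appLE ⊤ V.1 le_top).hom).toAlgebra
  haveI : IsScalarTower Γ(Spec (CommRingCat.of k), ⊤) Γ(X, V.1) A := IsScalarTower.of_algebraMap_eq' rfl
  obtain ⟨ψ, hψ, hψd⟩ := OmegaUniv.exists_retraction f V.2 (isAffineOpen_top (Spec (CommRingCat.of k)))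
    (e := le_top)
  have hconst : ∀ a : Γ(Spec (CommRingCat.of k), ⊤), ∃ c : k,
      chiV χ V.1 hq ((f.appLE ⊤ V.1 le_top).hom a) = algebraMap k A c := fun a => by
    refine ⟨(Scheme.ΓSpecIso (CommRingCat.of k)).hom a, ?_⟩
    rw [← hχ, ← germ_cst f V.1 hq]
    show _ = chiV χ V.1 hq (f.appLE ⊤ V.1 le_top ((Scheme.ΓSpecIso (CommRingCat.of k)).inv
      ((Scheme.ΓSpecIso (CommRingCat.of k)).hom a)))
    rw [Iso.hom_inv_id_apply]
  let lin : Γ(X, V.1) →ₗ[Γ(Spec (CommRingCat.of k), ⊤)] A :=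
    { toFun := fun b => D (chiV χ V.1 hq b)
      map_add' := fun a b => by simp only [map_add]
      map_smul' := fun a b => by
        obtain ⟨c, hc⟩ := hconst a
        show D (chiV χ V.1 hq ((f.appLE ⊤ V.1 le_top).hom a * b)) =
          chiV χ V.1 hq ((f.appLE ⊤ V.1 le_top).hom a) * D (chiV χ V.1 hq b)
        rw [map_mul, hc, ← Algebra.smul_def, D.map_smul, Algebra.smul_def] }
  let D' : Derivation Γ(Spec (CommRingCat.of k), ⊤) Γ(X, V.1) A :=
    Derivation.mk' lin fun a b => by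
      show D (chiV χ V.1 hq (a * b)) = chiV χ V.1 hq a * D (chiV χ V.1 hq b) + chiV χ V.1 hq b * D (chiV χ V.1 hq a)
      rw [map_mul, D.leibniz, smul_eq_mul, smul_eq_mul]
  refine ⟨D'.liftKaehlerDifferential.toAddMonoidHom.comp ψ, fun r m => ?_, fun b => ?_⟩
  · show D'.liftKaehlerDifferential (ψ (r • m)) = _
    rw [hψ, map_smul]
    rfl
  · show D'.liftKaehlerDifferential (ψ (OmegaSh.dSect f V.1 b)) = _
    rw [hψd, Derivation.liftKaehlerDifferential_comp_D]
    rfl

/-- Semilinear maps on affine differentials are determined on differentials. -/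
theorem omega_hom_ext [QuasiSeparated f] (V : X.affineOpens) (χV : Γ(X, V.1) →+* A)
    {δ δ' : Γ(Omega.sheaf f, V.1) →+ A} (h : ∀ r m, δ (r • m) = χV r * δ m) (h' : ∀ r m, δ' (r • m) = χV r * δ' m)
    (hd : ∀ b, δ (OmegaSh.dSect f V.1 b) = δ' (OmegaSh.dSect f V.1 b)) (m : Γ(Omega.sheaf f, V.1)) :
    δ m = δ' m := by
  induction (OmegaUniv.good_of_affine f V.2 (isAffineOpen_top (Spec (CommRingCat.of k))) le_top).1 m
    using Submodule.span_induction with
  | mem y hy => obtain ⟨b, rfl⟩ := hy; exact hd b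
  | zero => rw [map_zero, map_zero]
  | add a b _ _ ha hb => rw [map_add, map_add, ha, hb]
  | smul r y _ hy => rw [h, h', hy]

theorem exists_omegaVal [QuasiSeparated f] (hχ : OverK f χ) (D : Derivation k A A) :
    ∃ Φ : Val χ (Omega.sheaf f), ∀ (V : X.affineOpens) (hq : q ∈ V.1) (b : Γ(X, V.1)),
      Φ.toHom (gS _ V.1 hq (OmegaSh.dSect f V.1 b)) = D (chiV χ V.1 hq b) := by
  choose δ hδ hδd using fun (V : X.affineOpens) (hq : q ∈ V.1) => exists_delta f hχ D V hq
  obtain ⟨Φ, hΦ⟩ := exists_desc (M := Omega.sheaf f) χ δ (fun V V' h hq s => by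
    refine omega_hom_ext f V (chiV χ V.1 (h hq)) (δ := (δ V' hq).comp (res (Omega.sheaf f) h))
      (δ' := δ V (h hq)) (fun r m => ?_) (hδ V (h hq)) (fun b => ?_) s
    · show δ V' hq (res _ h (r • m)) = _
      rw [res_smul, hδ, chiV_res]; rfl
    · show δ V' hq (res _ h (OmegaSh.dSect f V.1 b)) = _
      rw [show res (Omega.sheaf f) h (OmegaSh.dSect f V.1 b) = OmegaSh.dSect f V'.1 (resR h b) from
        (OmegaSh.dSect_map f h b).symm, hδd, hδd, chiV_res]) (fun V hq r s => hδ V hq r s)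
  exact ⟨Φ, fun V hq b => (hΦ V hq _).trans (hδd V hq b)⟩

end

variable {i : ℕ} {L : X.Modules}
  (φ : ∀ U : X.affineOpens, (L.val.obj (op U.1)) ≃ₗ[Γ(X, U.1)]
    ↥(⋀[Γ(X, U.1)]^i ((Omega.sheaf f).val.obj (op U.1))))

/-- The wedge of sections. -/
noncomputable def wed (V : X.affineOpens) (e : Fin i → Γ(Omega.sheaf f, V.1)) : Γ(L, V.1) :=
  (φ V).symm (exteriorPower.ιMulti Γ(X, V.1) i (fun j => (show (Omega.sheaf f).val.obj (op V.1) from e j)))

/-- Compatibility of the identifications. -/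
def PhiComp : Prop := ∀ (U V : X.affineOpens) (h : V.1 ≤ U.1) (e : Fin i → (Omega.sheaf f).val.obj (op U.1)),
  L.val.map (homOfLE h).op ((φ U).symm (exteriorPower.ιMulti _ i e)) =
    (φ V).symm (exteriorPower.ιMulti _ i (fun j => (Omega.sheaf f).val.map (homOfLE h).op (e j)))

theorem res_wed (hφ : PhiComp f φ) {U V : X.affineOpens} (h : V.1 ≤ U.1) (e : Fin i → Γ(Omega.sheaf f, U.1)) :
    res L h (wed f φ U e) = wed f φ V (fun j => res _ h (e j)) :=
  hφ U V h e

theorem wed_induction (V : X.affineOpens) {C : Γ(L, V.1) → Prop} (hw : ∀ e, C (wed f φ V e)) (h0 : C 0)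
    (hadd : ∀ a b, C a → C b → C (a + b)) (hsm : ∀ (r : Γ(X, V.1)) a, C a → C (r • a)) (s : Γ(L, V.1)) : C s := by
  obtain ⟨w, rfl⟩ := (φ V).symm.surjective s
  have hmem : w ∈ Submodule.span Γ(X, V.1) (Set.range (exteriorPower.ιMulti Γ(X, V.1) i
      (M := (Omega.sheaf f).val.obj (op V.1)))) := by rw [exteriorPower.ιMulti_span]; trivial
  induction hmem using Submodule.span_induction with
  | mem y hy => obtain ⟨e, rfl⟩ := hy; exact hw e
  | zero => rw [map_zero]; exact h0
  | add a b _ _ ha hb => rw [map_add]; exact hadd _ _ ha hb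
  | smul r y _ hy => rw [map_smul]; exact hsm _ _ hy

variable {q : X} {A : Type u} [CommRing A] [Algebra k A] {χ : X.presheaf.stalk q →+* A}

theorem exists_extVal (hφ : PhiComp f φ) (Θ : Fin i → Val χ (Omega.sheaf f)) :
    ∃ Φ : Val χ L, ∀ (V : X.affineOpens) (hq : q ∈ V.1) (e : Fin i → Γ(Omega.sheaf f, V.1)),
      Φ.toHom (gS L V.1 hq (wed f φ V e)) = (Matrix.of fun j l => (Θ l).toHom (gS _ V.1 hq (e j))).det := by
  have hch : ∀ (V : X.affineOpens) (hq : q ∈ V.1), ∃ g : Γ(L, V.1) →+ A,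
      (∀ r s, g (r • s) = chiV χ V.1 hq r * g s) ∧
      ∀ e, g (wed f φ V e) = (Matrix.of fun j l => (Θ l).toHom (gS _ V.1 hq (e j))).det := by
    intro V hq
    letI : Algebra Γ(X, V.1) A := (chiV χ V.1 hq).toAlgebra
    let μ : (Omega.sheaf f).val.obj (op V.1) →ₗ[Γ(X, V.1)] (Fin i → A) :=
      { toFun := fun m l => (Θ l).toHom (gS _ V.1 hq (show Γ(Omega.sheaf f, V.1) from m))
        map_add' := fun a b => funext fun l => by
          show (Θ l).toHom (gS _ V.1 hq ((show Γ(Omega.sheaf f, V.1) from a) + (show Γ(Omega.sheaf f, V.1) from b))) = _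
          rw [map_add, map_add]; rfl
        map_smul' := fun r a => funext fun l => by
          show (Θ l).toHom (gS _ V.1 hq (r • (show Γ(Omega.sheaf f, V.1) from a))) = _
          rw [gS_smul, (Θ l).map_smul]; rfl }
    let det' : (Fin i → A) [⋀^Fin i]→ₗ[Γ(X, V.1)] A :=
      { (Matrix.detRowAlternating (n := Fin i) (R := A)).toMultilinearMap.restrictScalars Γ(X, V.1) with
        map_eq_zero_of_eq' := fun v a b h hab => Matrix.detRowAlternating.map_eq_zero_of_eq v h hab }
    let g' := exteriorPower.alternatingMapLinearEquiv (det'.compLinearMap μ)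
    refine ⟨(g'.comp (φ V).toLinearMap).toAddMonoidHom, fun r s => ?_, fun e => ?_⟩
    · show g' (φ V (r • (show L.val.obj (op V.1) from s))) = _
      rw [map_smul, map_smul]; rfl
    · show g' (φ V ((φ V).symm _)) = _
      rw [LinearEquiv.apply_symm_apply, exteriorPower.alternatingMapLinearEquiv_apply_ιMulti]
      rfl
  choose g hg hgw using hch
  obtain ⟨Φ, hΦ⟩ := exists_desc (M := L) χ g (fun V V' h hq s => by
    refine wed_induction f φ V (C := fun s => g V' hq (res L h s) = g V (h hq) s) (fun e => ?_)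
      (by simp only [map_zero]) (fun a b ha hb => by simp only [map_add, ha, hb])
      (fun r a ha => by rw [res_smul, hg, hg, chiV_res, ha]) s
    rw [res_wed f φ hφ, hgw, hgw]
    simp only [gS_res]) (fun V hq r s => hg V hq r s)
  exact ⟨Φ, fun V hq e => (hΦ V hq _).trans (hgw V hq e)⟩

theorem exists_zeroVal : ∃ Φ : Val χ (Coh.structureModule X), ∀ (V : X.affineOpens) (hq : q ∈ V.1) (r : Γ(X, V.1)),
    Φ.toHom (gS _ V.1 hq (show Γ(Coh.structureModule X, V.1) from r)) = chiV χ V.1 hq r :=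
  exists_desc (M := Coh.structureModule X) χ (fun V hq => (chiV χ V.1 hq).toAddMonoidHom)
    (fun V V' h hq s => chiV_res h hq (show Γ(X, V.1) from s))
    (fun V hq r s => map_mul (chiV χ V.1 hq) r (show Γ(X, V.1) from s))

variable [QuasiSeparated f]

/-- Value of one-forms. -/
noncomputable def omegaVal (hχ : OverK f χ) (D : Derivation k A A) : Val χ (Omega.sheaf f) :=
  (exists_omegaVal f hχ D).choose

theorem omegaVal_d (hχ : OverK f χ) (D : Derivation k A A) (V : X.affineOpens) (hq : q ∈ V.1) (b : Γ(X, V.1)) :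
    (omegaVal f hχ D).toHom (gS _ V.1 hq (OmegaSh.dSect f V.1 b)) = D (chiV χ V.1 hq b) :=
  (exists_omegaVal f hχ D).choose_spec V hq b

/-- Value of i-forms. -/
noncomputable def extVal (hφ : PhiComp f φ) (hχ : OverK f χ) (D : Fin i → Derivation k A A) : Val χ L :=
  (exists_extVal f φ hφ fun l => omegaVal f hχ (D l)).choose

theorem extVal_wed (hφ : PhiComp f φ) (hχ : OverK f χ) (D : Fin i → Derivation k A A) (V : X.affineOpens)
    (hq : q ∈ V.1) (e : Fin i → Γ(Omega.sheaf f, V.1)) :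
    (extVal f φ hφ hχ D).toHom (gS L V.1 hq (wed f φ V e)) =
      (Matrix.of fun j l => (omegaVal f hχ (D l)).toHom (gS _ V.1 hq (e j))).det :=
  (exists_extVal f φ hφ fun l => omegaVal f hχ (D l)).choose_spec V hq e

/-- Value of tensors of i-forms. -/
noncomputable def powVal (hφ : PhiComp f φ) (hχ : OverK f χ) :
    ∀ (m : ℕ), (ℕ → Fin i → Derivation k A A) → Val χ (CohB1.tensorPow L m)
  | 0, _ => (exists_zeroVal (χ := χ)).choose
  | m + 1, D => (exists_tensorVal χ (powVal hφ hχ m fun j => D (j + 1)) (extVal f φ hφ hχ (D 0))).choose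

theorem powVal_zero (hφ : PhiComp f φ) (hχ : OverK f χ) (D : ℕ → Fin i → Derivation k A A) (V : X.affineOpens)
    (hq : q ∈ V.1) (r : Γ(X, V.1)) :
    (powVal f φ hφ hχ 0 D).toHom (gS _ V.1 hq (show Γ(Coh.structureModule X, V.1) from r)) = chiV χ V.1 hq r :=
  (exists_zeroVal (χ := χ)).choose_spec V hq r

theorem powVal_succ (hφ : PhiComp f φ) (hχ : OverK f χ) (m : ℕ) (D : ℕ → Fin i → Derivation k A A) (V : X.Opens)
    (hq : q ∈ V) (s : Γ(CohB1.tensorPow L m, V)) (t : Γ(L, V)) :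
    (powVal f φ hφ hχ (m + 1) D).toHom (gS _ V hq (InvX.tmul s t)) =
      (powVal f φ hφ hχ m fun j => D (j + 1)).toHom (gS _ V hq s) *
        (extVal f φ hφ hχ (D 0)).toHom (gS L V hq t) :=
  (exists_tensorVal χ (powVal f φ hφ hχ m fun j => D (j + 1)) (extVal f φ hφ hχ (D 0))).choose_spec V hq s t

theorem powVal_eq_zero (hφ : PhiComp f φ) (hχ : OverK f χ) (hi : 0 < i) (m : ℕ) (D : ℕ → Fin i → Derivation k A A)
    (hD : ∀ l, D 0 l = 0) (z : stk (CohB1.tensorPow L (m + 1)) q) :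
    (powVal f φ hφ hχ (m + 1) D).toHom z = 0 := by
  refine stk_induction (M := CohB1.tensorPow L m) (N := L) (q := q)
    (C := fun z => (powVal f φ hφ hχ (m + 1) D).toHom z = 0) (map_zero _)
    (fun a b ha hb => by rw [map_add, ha, hb, add_zero]) (fun V hV hq s t => ?_) z
  refine (powVal_succ f φ hφ hχ m D V hq s t).trans ?_
  refine mul_eq_zero_of_right _ ?_
  have hΩ : ∀ m : Γ(Omega.sheaf f, V), (omegaVal f hχ (0 : Derivation k A A)).toHom (gS _ V hq m) = 0 := fun m =>
    omega_hom_ext f ⟨V, hV⟩ (chiV χ V hq) (δ := (omegaVal f hχ 0).toHom.comp (gS _ V hq)) (δ' := 0)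
      (fun r m => by
        show (omegaVal f hχ 0).toHom (gS _ V hq (r • m)) = _
        rw [gS_smul, Val.map_smul]; rfl)
      (fun r m => by simp) (fun b => by
        show (omegaVal f hχ 0).toHom (gS _ V hq (OmegaSh.dSect f V b)) = 0
        rw [omegaVal_d f hχ 0 ⟨V, hV⟩ hq b]; rfl) m
  refine wed_induction f φ ⟨V, hV⟩ (C := fun t => (extVal f φ hφ hχ (D 0)).toHom (gS L V hq t) = 0) (fun e => ?_)
    (by simp only [map_zero]) (fun a b ha hb => by simp only [map_add, ha, hb, add_zero])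
    (fun r a ha => by rw [gS_smul, Val.map_smul, ha, mul_zero]) t
  rw [extVal_wed f φ hφ hχ (D 0) ⟨V, hV⟩ hq]
  refine Matrix.det_eq_zero_of_column_eq_zero ⟨0, hi⟩ fun j => ?_
  rw [Matrix.of_apply, hD]
  exact hΩ _

section Functorial

variable {q' : X} {A' : Type u} [CommRing A'] [Algebra k A'] {χ' : X.presheaf.stalk q' →+* A'}
  (hsp : q' ⤳ q) (h : A →+* A') (hh : ∀ c, χ' (X.presheaf.stalkSpecializes hsp c) = h (χ c))

omit [QuasiSeparated f] [Algebra k A] [Algebra k A'] in
include hh in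
theorem chiV_spec {V : X.Opens} (hq : q ∈ V) (r : Γ(X, V)) :
    chiV χ' V (hsp.mem_open V.2 hq) r = h (chiV χ V hq r) := by
  show χ' _ = h (χ _)
  rw [← hh, X.presheaf.germ_stalkSpecializes_apply]

include hh in
theorem omegaVal_spec (hχ : OverK f χ) (hχ' : OverK f χ') (D : Derivation k A A) (D' : Derivation k A' A')
    (hD : ∀ a, D' (h a) = h (D a)) (V : X.affineOpens) (hq : q ∈ V.1) (m : Γ(Omega.sheaf f, V.1)) :
    (omegaVal f hχ' D').toHom (gS _ V.1 (hsp.mem_open V.1.2 hq) m) = h ((omegaVal f hχ D).toHom (gS _ V.1 hq m)) :=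
  omega_hom_ext f V (chiV χ' V.1 (hsp.mem_open V.1.2 hq))
    (δ := (omegaVal f hχ' D').toHom.comp (gS _ V.1 (hsp.mem_open V.1.2 hq)))
    (δ' := h.toAddMonoidHom.comp ((omegaVal f hχ D).toHom.comp (gS _ V.1 hq)))
    (fun r m => by
      show (omegaVal f hχ' D').toHom (gS _ _ _ (r • m)) = _
      rw [gS_smul, Val.map_smul]; rfl)
    (fun r m => by
      show h ((omegaVal f hχ D).toHom (gS _ _ _ (r • m))) = _
      rw [gS_smul, Val.map_smul, map_mul, chiV_spec hsp h hh hq]; rfl)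
    (fun b => by
      show (omegaVal f hχ' D').toHom (gS _ _ _ _) = h ((omegaVal f hχ D).toHom _)
      rw [omegaVal_d, omegaVal_d, chiV_spec hsp h hh hq, hD]) m

include hh in
theorem extVal_spec (hφ : PhiComp f φ) (hχ : OverK f χ) (hχ' : OverK f χ') (D : Fin i → Derivation k A A)
    (D' : Fin i → Derivation k A' A') (hD : ∀ l a, D' l (h a) = h (D l a)) (V : X.affineOpens) (hq : q ∈ V.1)
    (t : Γ(L, V.1)) :
    (extVal f φ hφ hχ' D').toHom (gS _ V.1 (hsp.mem_open V.1.2 hq) t) =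
      h ((extVal f φ hφ hχ D).toHom (gS _ V.1 hq t)) := by
  refine wed_induction f φ V (C := fun t => (extVal f φ hφ hχ' D').toHom (gS _ V.1 (hsp.mem_open V.1.2 hq) t) =
      h ((extVal f φ hφ hχ D).toHom (gS _ V.1 hq t))) (fun e => ?_)
    (by simp only [map_zero]) (fun a b ha hb => by simp only [map_add, ha, hb])
    (fun r a ha => by
      rw [gS_smul, gS_smul, Val.map_smul, Val.map_smul, map_mul, ha]; exact congrArg (· * _) (chiV_spec hsp h hh hq r)) t
  rw [extVal_wed, extVal_wed, RingHom.map_det]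
  congr 1
  ext j l
  exact omegaVal_spec f hsp h hh hχ hχ' (D l) (D' l) (hD l) V hq (e j)

include hh in
theorem powVal_spec (hφ : PhiComp f φ) (hχ : OverK f χ) (hχ' : OverK f χ') (m : ℕ) :
    ∀ (D : ℕ → Fin i → Derivation k A A) (D' : ℕ → Fin i → Derivation k A' A'),
      (∀ a l x, D' a l (h x) = h (D a l x)) →
      ∀ (U : X.Opens) (hq : q ∈ U) (s : Γ(CohB1.tensorPow L m, U)),
        (powVal f φ hφ hχ' m D').toHom (gS _ U (hsp.mem_open U.2 hq) s) =
          h ((powVal f φ hφ hχ m D).toHom (gS _ U hq s)) := by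
  induction m with
  | zero =>
    intro D D' _ U hq s
    obtain ⟨_, ⟨V, hV, rfl⟩, hqV, hVU⟩ := X.isBasis_affineOpens.exists_subset_of_mem_open hq U.2
    rw [← gS_res hVU hqV s, ← gS_res hVU (hsp.mem_open V.2 hqV) s]
    exact (powVal_zero f φ hφ hχ' D' ⟨V, hV⟩ (hsp.mem_open V.2 hqV) _).trans
      ((chiV_spec hsp h hh hqV _).trans (congrArg h (powVal_zero f φ hφ hχ D ⟨V, hV⟩ hqV _).symm))
  | succ m ih =>
    intro D D' hD U hq s
    obtain ⟨σ, hσ⟩ := exists_spec (M := CohB1.tensorPow L (m + 1)) hsp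
    rw [← hσ U hq s]
    refine stk_induction (M := CohB1.tensorPow L m) (N := L) (q := q)
      (C := fun z => (powVal f φ hφ hχ' (m + 1) D').toHom (σ z) = h ((powVal f φ hφ hχ (m + 1) D).toHom z))
      ?_ ?_ ?_ (gS (CohB1.tensorPow L (m + 1)) U hq s)
    · simp only [map_zero]
    · intro a b ha hb; simp only [map_add, ha, hb]
    · intro V hV hqV a b
      refine (congrArg (powVal f φ hφ hχ' (m + 1) D').toHom
        (hσ V hqV (InvX.tmul a b : Γ(CohB1.tensorMod (CohB1.tensorPow L m) L, V)))).trans ?_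
      refine (powVal_succ f φ hφ hχ' m D' V _ a b).trans ?_
      refine Eq.trans ?_ (congrArg h (powVal_succ f φ hφ hχ m D V hqV a b)).symm
      rw [map_mul, ih _ _ (fun a l => hD (a + 1) l) V hqV a]
      congr 1
      exact extVal_spec f φ hsp h hh hφ hχ hχ' (D 0) (D' 0) (hD 0) ⟨V, hV⟩ hqV b

end Functorial

end Groth.Agent.REq2
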