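import Mathlib.RingTheory.LaurentSeries
import Mathlib.RingTheory.Localization.AtPrime.Basic
import Mathlib.RingTheory.Polynomial.Basic
import Mathlib.RingTheory.PowerSeries.Trunc
import Mathlib.Algebra.MvPolynomial.Eval

/-!
Closeness in the field of Laurent series and approximation by rational functions.
-/

universe u

open HahnSeries

namespace Groth.Agent.REq2

variable {K : Type u} [Field K]

/-- Power series inside Laurent series. -/
noncomputable abbrev io (K : Type u) [Field K] : PowerSeries K →+* LaurentSeries K :=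
  HahnSeries.ofPowerSeries ℤ K

/-- Powers of the parameter. -/
noncomputable def tp (n : ℤ) : LaurentSeries K := HahnSeries.single n 1

theorem tp_mul (a b : ℤ) : (tp a : LaurentSeries K) * tp b = tp (a + b) := by
  rw [tp, tp, tp, single_mul_single, one_mul]

theorem tp_zero : (tp 0 : LaurentSeries K) = 1 := rfl

theorem tp_natCast (n : ℕ) : (tp (n : ℤ) : LaurentSeries K) = io K (PowerSeries.X ^ n) :=
  (ofPowerSeries_X_pow _).symm

theorem tp_ne_zero (n : ℤ) : (tp n : LaurentSeries K) ≠ 0 := by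
  intro h
  have h1 := tp_mul (K := K) (-n) n
  rw [h, mul_zero, neg_add_cancel, tp_zero] at h1
  exact zero_ne_one h1

/-- Lies in the n-th step of the filtration. -/
def InFil (n : ℤ) (x : LaurentSeries K) : Prop := ∃ s : PowerSeries K, x = tp n * io K s

theorem InFil.mono {n m : ℤ} (h : m ≤ n) {x : LaurentSeries K} (hx : InFil n x) : InFil m x := by
  obtain ⟨s, rfl⟩ := hx
  obtain ⟨j, hj⟩ := Int.eq_ofNat_of_zero_le (sub_nonneg.2 h)
  refine ⟨PowerSeries.X ^ j * s, ?_⟩
  rw [map_mul, ← tp_natCast, ← mul_assoc, tp_mul]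
  congr 2
  omega

theorem InFil.add {n : ℤ} {x y : LaurentSeries K} (hx : InFil n x) (hy : InFil n y) : InFil n (x + y) := by
  obtain ⟨s, rfl⟩ := hx; obtain ⟨t, rfl⟩ := hy
  exact ⟨s + t, by rw [map_add, mul_add]⟩

theorem InFil.neg {n : ℤ} {x : LaurentSeries K} (hx : InFil n x) : InFil n (-x) := by
  obtain ⟨s, rfl⟩ := hx
  exact ⟨-s, by rw [map_neg, mul_neg]⟩

theorem InFil.mul {n m : ℤ} {x y : LaurentSeries K} (hx : InFil n x) (hy : InFil m y) :
    InFil (n + m) (x * y) := by
  obtain ⟨s, rfl⟩ := hx; obtain ⟨t, rfl⟩ := hy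
  exact ⟨s * t, by rw [map_mul, ← tp_mul]; ring⟩

theorem inFil_zero (n : ℤ) : InFil n (0 : LaurentSeries K) := ⟨0, by rw [map_zero, mul_zero]⟩

theorem exists_inFil (x : LaurentSeries K) : ∃ n, InFil n x :=
  ⟨x.order, x.powerSeriesPart, (LaurentSeries.single_order_mul_powerSeriesPart x).symm⟩

theorem exists_unit_form {x : LaurentSeries K} (hx : x ≠ 0) :
    ∃ (n : ℤ) (s : PowerSeries K), PowerSeries.constantCoeff s ≠ 0 ∧ x = tp n * io K s := by
  refine ⟨x.order, x.powerSeriesPart, ?_, (LaurentSeries.single_order_mul_powerSeriesPart x).symm⟩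
  rw [← PowerSeries.coeff_zero_eq_constantCoeff_apply, LaurentSeries.powerSeriesPart_coeff]
  simpa [HahnSeries.coeff_order_eq_zero] using hx

theorem close_inv {x : LaurentSeries K} (hx : x ≠ 0) (N : ℤ) :
    ∃ M : ℤ, ∀ x', InFil M (x' - x) → x' ≠ 0 ∧ InFil N (x'⁻¹ - x⁻¹) := by
  obtain ⟨o, s, hs, rfl⟩ := exists_unit_form hx
  refine ⟨max (o + 1) (N + o + o), fun x' h => ?_⟩
  obtain ⟨u, hu⟩ := InFil.mono (le_max_left _ _) h
  have hx' : x' = tp o * io K (s + PowerSeries.X * u) := by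
    have e1 : x' = (x' - tp o * io K s) + tp o * io K s := by ring
    rw [e1, hu, map_add, map_mul, ← pow_one (PowerSeries.X : PowerSeries K), ← tp_natCast, ← tp_mul,
      Nat.cast_one]
    ring
  have hs' : PowerSeries.constantCoeff (s + PowerSeries.X * u) ≠ 0 := by simpa using hs
  obtain ⟨t', ht'⟩ := isUnit_iff_exists_inv.1 (PowerSeries.isUnit_iff_constantCoeff.2 (isUnit_iff_ne_zero.2 hs'))
  obtain ⟨t, ht⟩ := isUnit_iff_exists_inv.1 (PowerSeries.isUnit_iff_constantCoeff.2 (isUnit_iff_ne_zero.2 hs))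
  have hne : x' ≠ 0 := by
    rw [hx']
    exact mul_ne_zero (tp_ne_zero _) fun h0 => one_ne_zero (α := LaurentSeries K) (by
      rw [← map_one (io K), ← ht', map_mul, h0, zero_mul])
  refine ⟨hne, ?_⟩
  have hi' : InFil (-o) x'⁻¹ := ⟨t', inv_eq_of_mul_eq_one_right (by
    rw [hx', mul_mul_mul_comm, tp_mul, ← map_mul, ht', add_neg_cancel, tp_zero, map_one, one_mul])⟩
  have hi : InFil (-o) (tp o * io K s)⁻¹ := ⟨t, inv_eq_of_mul_eq_one_right (by
    rw [mul_mul_mul_comm, tp_mul, ← map_mul, ht, add_neg_cancel, tp_zero, map_one, one_mul])⟩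
  rw [inv_sub_inv hne hx, div_eq_mul_inv, mul_inv, ← neg_sub x']
  refine InFil.mono ?_ (((InFil.mono (le_max_right _ _) h).neg).mul (hi'.mul hi))
  omega

theorem close_mul (x y : LaurentSeries K) (N : ℤ) :
    ∃ M : ℤ, ∀ x' y', InFil M (x' - x) → InFil M (y' - y) → InFil N (x' * y' - x * y) := by
  obtain ⟨a, ha⟩ := exists_inFil x
  obtain ⟨b, hb⟩ := exists_inFil y
  refine ⟨max (max (N - a) (N - b)) b, fun x' y' hx' hy' => ?_⟩
  have hy : InFil b y' := by
    have := (InFil.mono (le_max_right _ _) hy').add hb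
    rwa [sub_add_cancel] at this
  rw [show x' * y' - x * y = (x' - x) * y' + x * (y' - y) by ring]
  refine InFil.add (InFil.mono ?_ (hx'.mul hy)) (InFil.mono ?_ (ha.mul hy')) <;> omega

theorem close_eval {k σ : Type*} [CommRing k] [Finite σ] (φ : k →+* LaurentSeries K) (v : σ → LaurentSeries K)
    (F : MvPolynomial σ k) (N : ℤ) : ∃ M : ℤ, ∀ v', (∀ i, InFil M (v' i - v i)) →
      InFil N (MvPolynomial.eval₂Hom φ v' F - MvPolynomial.eval₂Hom φ v F) := by
  induction F using MvPolynomial.induction_on generalizing N with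
  | C r => exact ⟨0, fun v' _ => by simpa using inFil_zero N⟩
  | add p q hp hq =>
    obtain ⟨M₁, h₁⟩ := hp N
    obtain ⟨M₂, h₂⟩ := hq N
    refine ⟨max M₁ M₂, fun v' h => ?_⟩
    rw [map_add, map_add, add_sub_add_comm]
    exact (h₁ v' fun i => (h i).mono (le_max_left _ _)).add (h₂ v' fun i => (h i).mono (le_max_right _ _))
  | mul_X p i hp =>
    obtain ⟨M, hM⟩ := close_mul (MvPolynomial.eval₂Hom φ v p) (v i) N
    obtain ⟨M₁, h₁⟩ := hp M
    refine ⟨max M M₁, fun v' h => ?_⟩
    simp only [map_mul, MvPolynomial.eval₂Hom_X']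
    exact hM _ _ (h₁ v' fun j => (h j).mono (le_max_right _ _)) ((h i).mono (le_max_left _ _))

/-- The ideal of the origin. -/
noncomputable abbrev m0 (K : Type u) [Field K] : Ideal (Polynomial K) := RingHom.ker (Polynomial.evalRingHom (0 : K))

instance : (m0 K).IsPrime := RingHom.ker_isPrime _

/-- The rational functions inside Laurent series. -/
noncomputable def jF (K : Type u) [Field K] : FractionRing (Polynomial K) →+* LaurentSeries K :=
  IsFractionRing.lift (g := (io K).comp Polynomial.coeToPowerSeries.ringHom)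
    ((HahnSeries.ofPowerSeries_injective).comp (Polynomial.coe_injective K))

theorem jF_algebraMap (p : Polynomial K) : jF K (algebraMap _ _ p) = io K (p : PowerSeries K) :=
  IsFractionRing.lift_algebraMap _ _

theorem exists_approx (x : LaurentSeries K) (N : ℤ) : ∃ r : FractionRing (Polynomial K), InFil N (jF K r - x) := by
  obtain ⟨o, s, hs⟩ := exists_inFil x
  let m : ℕ := (N - o).toNat
  have ho : ∃ r : FractionRing (Polynomial K), jF K r = tp o := by
    have hn : ∀ j : ℕ, jF K (algebraMap (Polynomial K) _ (Polynomial.X ^ j)) = tp (j : ℤ) := fun j => by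
      rw [jF_algebraMap, tp_natCast, Polynomial.coe_pow, Polynomial.coe_X]
    rcases Int.eq_nat_or_neg o with ⟨j, rfl | rfl⟩
    · exact ⟨_, hn j⟩
    · refine ⟨(algebraMap (Polynomial K) _ (Polynomial.X ^ j))⁻¹, ?_⟩
      rw [map_inv₀, hn]
      exact inv_eq_of_mul_eq_one_right (by rw [tp_mul, add_neg_cancel, tp_zero])
  obtain ⟨r₀, hr₀⟩ := ho
  obtain ⟨t, ht⟩ : (PowerSeries.X ^ m : PowerSeries K) ∣ (((PowerSeries.trunc m s : Polynomial K) : PowerSeries K) - s) := by
    rw [PowerSeries.X_pow_dvd_iff]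
    intro i hi
    rw [map_sub, Polynomial.coeff_coe, PowerSeries.coeff_trunc, if_pos hi, sub_self]
  refine ⟨r₀ * algebraMap _ _ (PowerSeries.trunc m s), InFil.mono (n := o + m) (by omega) ⟨t, ?_⟩⟩
  rw [map_mul, hr₀, jF_algebraMap, hs, ← mul_sub, ← map_sub, ht, map_mul, ← tp_natCast, ← mul_assoc, tp_mul]

theorem exists_loc {r : FractionRing (Polynomial K)} {s : PowerSeries K} (h : jF K r = io K s) :
    ∃ (a b : Polynomial K), b.eval 0 ≠ 0 ∧ r * algebraMap _ _ b = algebraMap _ _ a ∧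
      (a : PowerSeries K) = s * (b : PowerSeries K) := by
  obtain ⟨a, b, hb, rfl⟩ := IsFractionRing.div_surjective (A := Polynomial K) r
  have hb0 : b ≠ 0 := nonZeroDivisors.ne_zero hb
  have hb' : algebraMap (Polynomial K) (FractionRing (Polynomial K)) b ≠ 0 := by simpa using hb0
  have hab : (a : PowerSeries K) = s * (b : PowerSeries K) := by
    refine HahnSeries.ofPowerSeries_injective (Γ := ℤ) (R := K) ?_
    show io K _ = io K _
    rw [map_mul, ← jF_algebraMap, ← jF_algebraMap, ← h, ← map_mul, div_mul_cancel₀ _ hb']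
  obtain ⟨b₁, hb₁, hbd⟩ := Polynomial.exists_eq_pow_rootMultiplicity_mul_and_not_dvd b hb0 0
  set m := b.rootMultiplicity 0
  rw [map_zero, sub_zero] at hb₁ hbd
  obtain ⟨a₁, ha₁⟩ : Polynomial.X ^ m ∣ a := by
    rw [Polynomial.X_pow_dvd_iff]
    intro i hi
    have h1 : (PowerSeries.X ^ m : PowerSeries K) ∣ (a : PowerSeries K) := by
      rw [hab, hb₁, Polynomial.coe_mul, Polynomial.coe_pow, Polynomial.coe_X]
      exact Dvd.intro (s * b₁) (by ring)
    have h2 := PowerSeries.X_pow_dvd_iff.1 h1 i hi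
    rwa [Polynomial.coeff_coe] at h2
  refine ⟨a₁, b₁, fun h0 => hbd (Polynomial.X_dvd_iff.2 (by rwa [Polynomial.coeff_zero_eq_eval_zero])), ?_, ?_⟩
  · have hX : algebraMap (Polynomial K) (FractionRing (Polynomial K)) (Polynomial.X ^ m) ≠ 0 := by simp
    refine mul_left_cancel₀ hX ?_
    rw [mul_left_comm, ← map_mul, ← map_mul, ← hb₁, ← ha₁, div_mul_cancel₀ _ hb']
  · refine mul_left_cancel₀ (pow_ne_zero m (PowerSeries.X_ne_zero (R := K))) ?_
    rw [mul_left_comm, ← Polynomial.coe_X, ← Polynomial.coe_pow, ← Polynomial.coe_mul, ← Polynomial.coe_mul,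
      ← hb₁, ← ha₁, hab]

end Groth.Agent.REq2
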