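import Groth.Agent.REq2.Points
import Groth.Agent.H23.RatExtend

/-!
Values of a global tensor of forms are constant on rational curves.
-/

universe u

open CategoryTheory AlgebraicGeometry TopologicalSpace Opposite

namespace Groth.Agent.REq2

variable {k K : Type u} [Field k] [Field K] [Algebra k K]

/-- The rational functions. -/
abbrev RF (K : Type u) [Field K] : Type u := FractionRing (Polynomial K)

/-- The extension of a derivation, killing the coordinate. -/
noncomputable def ratDer (D : Derivation k K K) : Derivation k (RF K) (RF K) := (exists_der_rat D).choose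

theorem ratDer_poly (D : Derivation k K K) (p : Polynomial K) :
    ratDer D (algebraMap (Polynomial K) (RF K) p) = algebraMap (Polynomial K) (RF K) (coeffDer D p) :=
  (exists_der_rat D).choose_spec.1 p

variable {X : Scheme.{u}} (f : X ⟶ Spec (CommRingCat.of k)) [IsProper f] {i : ℕ} {L : X.Modules}
  (φ : ∀ U : X.affineOpens, (L.val.obj (op U.1)) ≃ₗ[Γ(X, U.1)]
    ↥(⋀[Γ(X, U.1)]^i ((Omega.sheaf f).val.obj (op U.1))))
  (hφ : PhiComp f φ) {m : ℕ} (s : Γ(CohB1.tensorPow L m, ⊤)) (D : ℕ → Fin i → Derivation k K K)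

theorem regular_at (x : Spec (CommRingCat.of (RF K)) ⟶ X)
    (hx : x ≫ f = Spec.map (CommRingCat.ofHom (algebraMap k (RF K)))) (P : Ideal (Polynomial K)) [P.IsPrime] :
    ∃ a b : Polynomial K, b ∉ P ∧ ptVal f x φ hφ s hx (fun a l => ratDer (D a l)) * algebraMap _ _ b =
      algebraMap (Polynomial K) (RF K) a := by
  let Ap := Localization.AtPrime P
  let io : Ap →+* RF K := IsLocalization.lift (M := P.primeCompl) (S := Ap)
    (g := algebraMap (Polynomial K) (RF K)) fun y => isUnit_iff_ne_zero.2 fun h => y.2 (by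
      have h2 : (y : Polynomial K) = 0 := IsFractionRing.injective _ _ (h.trans (map_zero _).symm)
      rw [h2]; exact zero_mem _)
  have hio : ∀ p, io (algebraMap _ _ p) = algebraMap (Polynomial K) (RF K) p := fun p => IsLocalization.lift_eq _ _
  haveI : ValuationRing Ap := H23.RatExtend.valuationRing_atPrime P
  haveI : IsDomain Ap := IsLocalization.isDomain_localization P.primeCompl_le_nonZeroDivisors
  letI := io.toAlgebra
  haveI : IsScalarTower (Polynomial K) Ap (RF K) := IsScalarTower.of_algebraMap_eq fun p => (hio p).symm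
  haveI : IsFractionRing Ap (RF K) := IsFractionRing.isFractionRing_of_isDomain_of_isLocalization P.primeCompl Ap (RF K)
  have hk : io.comp (algebraMap k Ap) = algebraMap k (RF K) := RingHom.ext fun c => by
    rw [RingHom.comp_apply, IsScalarTower.algebraMap_apply k (Polynomial K) Ap, hio,
      ← IsScalarTower.algebraMap_apply k (Polynomial K) (RF K)]
  have hE : ValuativeCriterion.Existence f := by
    have h := ‹IsProper f›
    rw [IsProper.eq_valuativeCriterion] at h
    exact h.1.1.1.existence
  let sq : ValuativeCommSq f :=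
    { R := Ap
      K := RF K
      i₁ := x
      i₂ := Spec.map (CommRingCat.ofHom (algebraMap k Ap))
      commSq := ⟨by
        rw [hx, ← hk, CommRingCat.ofHom_comp, Spec.map_comp]⟩ }
  obtain ⟨l, hl₁, hl₂⟩ := (hE sq).exists_lift
  haveI : IsLocalRing Ap := inferInstance
  choose E hE' using fun a j => exists_der_ext (k := k) (R := Polynomial K) (S := Ap) P.primeCompl
    (fun p => algebraMap (Polynomial K) Ap (coeffDer (D a j) p)) (fun a b => by rw [map_add, map_add])
    (fun a b => by rw [coeffDer_mul, map_add, map_mul, map_mul])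
    (fun c a => by rw [map_smul, ← IsScalarTower.toAlgHom_apply k (Polynomial K) Ap, map_smul]; rfl)
  have key := map_ptVal f l φ hφ s io x hl₁ hl₂ hx E (fun a l => ratDer (D a l)) fun a j y =>
    der_comm_loc P.primeCompl io (E a j) (ratDer (D a j)) (fun r => by rw [hio, ratDer_poly, hE', hio]) y
  obtain ⟨⟨a, b⟩, hab⟩ := IsLocalization.surj P.primeCompl (ptVal f l φ hφ s hl₂ E)
  refine ⟨a, b, b.2, ?_⟩
  rw [key, ← hio, ← map_mul, hab, hio]

omit [Algebra k K] in
/-- Inversion of the coordinate. -/
theorem exists_inv : ∃ σ : RF K →+* RF K,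
    (∀ c, σ (algebraMap (Polynomial K) _ (Polynomial.C c)) = algebraMap (Polynomial K) _ (Polynomial.C c)) ∧
    σ (algebraMap (Polynomial K) _ Polynomial.X) = (algebraMap (Polynomial K) _ Polynomial.X)⁻¹ := by
  let τ : Polynomial K →+* RF K := Polynomial.eval₂RingHom ((algebraMap (Polynomial K) (RF K)).comp Polynomial.C)
    (algebraMap (Polynomial K) (RF K) Polynomial.X)⁻¹
  have hX : algebraMap (Polynomial K) (RF K) Polynomial.X ≠ 0 := by simp [Polynomial.X_ne_zero]
  have hτ : Function.Injective τ := by
    rw [injective_iff_map_eq_zero]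
    intro p hp
    by_contra hp0
    have h1 : τ p * (algebraMap (Polynomial K) (RF K) Polynomial.X) ^ p.natDegree =
        algebraMap (Polynomial K) (RF K) p.reverse := by
      haveI := invertibleOfNonzero (inv_ne_zero hX)
      have h2 := Polynomial.eval₂_reverse_mul_pow ((algebraMap (Polynomial K) (RF K)).comp Polynomial.C)
        ((algebraMap (Polynomial K) (RF K) Polynomial.X)⁻¹) p
      rw [invOf_eq_inv, inv_inv] at h2
      show Polynomial.eval₂ _ _ p * _ = _
      rw [← h2, mul_assoc, ← mul_pow, inv_mul_cancel₀ hX, one_pow, mul_one, ← Polynomial.hom_eval₂,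
        Polynomial.eval₂_C_X]
    rw [hp, zero_mul] at h1
    exact hp0 (Polynomial.reverse_eq_zero.1 (IsFractionRing.injective _ _ (h1.symm.trans (map_zero _).symm)))
  exact ⟨IsFractionRing.lift hτ, fun c => by rw [IsFractionRing.lift_algebraMap]; simp [τ],
    by rw [IsFractionRing.lift_algebraMap]; simp [τ]⟩

theorem exists_const (x : Spec (CommRingCat.of (RF K)) ⟶ X)
    (hx : x ≫ f = Spec.map (CommRingCat.ofHom (algebraMap k (RF K)))) :
    ∃ v : K, ptVal f x φ hφ s hx (fun a l => ratDer (D a l)) = algebraMap (Polynomial K) (RF K) (Polynomial.C v) := by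
  set V := ptVal f x φ hφ s hx (fun a l => ratDer (D a l)) with hV
  obtain ⟨p, hp⟩ : ∃ p, V = algebraMap (Polynomial K) (RF K) p := by
    let I : Ideal (Polynomial K) :=
      { carrier := {b | ∃ a, V * algebraMap _ _ b = algebraMap (Polynomial K) (RF K) a}
        zero_mem' := ⟨0, by simp⟩
        add_mem' := fun {b b'} ⟨a, ha⟩ ⟨a', ha'⟩ => ⟨a + a', by rw [map_add, map_add, mul_add, ha, ha']⟩
        smul_mem' := fun r b ⟨a, ha⟩ => ⟨r * a, by rw [smul_eq_mul, map_mul, map_mul, mul_left_comm, ha]⟩ }
    have htop : I = ⊤ := by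
      by_contra hI
      obtain ⟨P, hP, hle⟩ := I.exists_le_maximal hI
      obtain ⟨a, b, hb, hab⟩ := regular_at f φ hφ s D x hx P
      exact hb (hle ⟨a, hab⟩)
    obtain ⟨a, ha⟩ := (Ideal.eq_top_iff_one I).1 htop
    exact ⟨a, by simpa using ha⟩
  obtain ⟨σ, hσC, hσX⟩ := exists_inv (K := K)
  have hσk : σ.comp (algebraMap k (RF K)) = algebraMap k (RF K) := RingHom.ext fun c => by
    rw [RingHom.comp_apply, IsScalarTower.algebraMap_apply k (Polynomial K) (RF K),
      show algebraMap k (Polynomial K) c = Polynomial.C (algebraMap k K c) from rfl, hσC]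
  let x' : Spec (CommRingCat.of (RF K)) ⟶ X := Spec.map (CommRingCat.ofHom σ) ≫ x
  have hx' : x' ≫ f = Spec.map (CommRingCat.ofHom (algebraMap k (RF K))) := by
    rw [Category.assoc, hx, ← Spec.map_comp, ← CommRingCat.ofHom_comp, hσk]
  have hcomm : ∀ a l y, ratDer (D a l) (σ y) = σ (ratDer (D a l) y) := fun a l y => by
    refine der_comm_loc (R := Polynomial K) (S := RF K) (nonZeroDivisors _) σ (ratDer (D a l)) (ratDer (D a l))
      (fun r => ?_) y
    induction r using Polynomial.induction_on' with
    | add r r' hr hr' => simp only [map_add, hr, hr']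
    | monomial n c =>
      rw [ratDer_poly, coeffDer_monomial, ← Polynomial.C_mul_X_pow_eq_monomial, ← Polynomial.C_mul_X_pow_eq_monomial]
      have hX0 : ratDer (D a l) (algebraMap (Polynomial K) (RF K) Polynomial.X) = 0 := by
        rw [ratDer_poly, ← Polynomial.monomial_one_one_eq_X, coeffDer_monomial, Derivation.map_one_eq_zero,
          map_zero, map_zero]
      simp only [map_mul, map_pow, hσC, hσX, Derivation.leibniz, Derivation.leibniz_pow, Derivation.leibniz_inv,
        hX0, smul_zero, zero_add, smul_eq_mul]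
      simp only [mul_zero, smul_zero, zero_mul, zero_add, ratDer_poly, coeffDer_C]
      rw [mul_comm]
  have hval := map_ptVal f x φ hφ s σ x' rfl hx hx' (fun a l => ratDer (D a l)) (fun a l => ratDer (D a l)) hcomm
  rw [← hV, hp] at hval
  haveI : (m0 K).IsPrime := inferInstance
  obtain ⟨a, b, hb, hab⟩ := regular_at f φ hφ s D x' hx' (m0 K)
  rw [hval] at hab
  refine ⟨p.coeff 0, hp.trans ?_⟩
  by_cases hN : p.natDegree = 0
  · rw [← Polynomial.eq_C_of_natDegree_eq_zero hN]
  exfalso
  have hX : algebraMap (Polynomial K) (RF K) Polynomial.X ≠ 0 := by simp [Polynomial.X_ne_zero]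
  haveI := invertibleOfNonzero (inv_ne_zero hX)
  have h2 := Polynomial.eval₂_reverse_mul_pow ((algebraMap (Polynomial K) (RF K)).comp Polynomial.C)
    ((algebraMap (Polynomial K) (RF K) Polynomial.X)⁻¹) p
  rw [invOf_eq_inv, inv_inv] at h2
  have h3 : σ (algebraMap _ _ p) = Polynomial.eval₂ ((algebraMap (Polynomial K) (RF K)).comp Polynomial.C)
      (algebraMap (Polynomial K) (RF K) Polynomial.X)⁻¹ p := by
    conv_lhs => rw [← Polynomial.eval₂_C_X (p := p)]
    rw [Polynomial.hom_eval₂, Polynomial.hom_eval₂, hσX]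
    congr 1
    ext c
    exact hσC c
  have h4 : p.reverse * b = a * Polynomial.X ^ p.natDegree := by
    refine IsFractionRing.injective (Polynomial K) (RF K) ?_
    rw [map_mul, map_mul, map_pow, ← hab, h3, ← h2, ← Polynomial.hom_eval₂, Polynomial.eval₂_C_X,
      mul_right_comm (_ * _), mul_assoc (algebraMap (Polynomial K) (RF K) p.reverse), ← mul_pow,
      inv_mul_cancel₀ hX, one_pow, mul_one]
  have h5 := congrArg (Polynomial.eval 0) h4
  rw [Polynomial.eval_mul, Polynomial.eval_mul, Polynomial.eval_pow, Polynomial.eval_X, zero_pow hN, mul_zero,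
    ← Polynomial.coeff_zero_eq_eval_zero, Polynomial.coeff_zero_reverse, mul_eq_zero] at h5
  rcases h5 with h5 | h5
  · exact hN (by rw [Polynomial.leadingCoeff_eq_zero.1 h5, Polynomial.natDegree_zero])
  · exact hb h5

theorem line_core (W : (Spec (CommRingCat.of (Polynomial K))).Opens) (g : W.toScheme ⟶ X)
    (hg : g ≫ f = W.ι ≫ Spec.map (CommRingCat.ofHom (algebraMap k (Polynomial K)))) :
    ∀ hW : (W : Set (Spec (CommRingCat.of (Polynomial K)))).Nonempty,
    ∃ v : K, ∀ (c : K), (∀ a l, D a l c = 0) →
      ∀ (pc : Spec (CommRingCat.of K) ⟶ W.toScheme),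
        pc ≫ W.ι = Spec.map (CommRingCat.ofHom (Polynomial.evalRingHom c)) →
        ∀ hx : (pc ≫ g) ≫ f = Spec.map (CommRingCat.ofHom (algebraMap k K)),
          ptVal f (pc ≫ g) φ hφ s hx D = v := by
  intro hW
  have hgenW : ∀ y, Spec.map (CommRingCat.ofHom (algebraMap (Polynomial K) (RF K))) y ∈ W := fun y => by
    obtain ⟨w, hw⟩ := hW
    refine (show Spec.map (CommRingCat.ofHom (algebraMap (Polynomial K) (RF K))) y ⤳ w from ?_).mem_open W.2 hw
    refine (PrimeSpectrum.le_iff_specializes _ _).1 ?_
    show Ideal.comap (algebraMap (Polynomial K) (RF K)) y.asIdeal ≤ _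
    rw [Ideal.eq_bot_of_prime y.asIdeal, Ideal.comap_bot_of_injective _ (IsFractionRing.injective _ _)]
    exact bot_le
  let gF := IsOpenImmersion.lift W.ι (Spec.map (CommRingCat.ofHom (algebraMap (Polynomial K) (RF K))))
    (by rw [Scheme.Opens.range_ι]; rintro _ ⟨y, rfl⟩; exact hgenW y)
  have hxF : (gF ≫ g) ≫ f = Spec.map (CommRingCat.ofHom (algebraMap k (RF K))) := by
    rw [Category.assoc, hg, IsOpenImmersion.lift_fac_assoc, ← Spec.map_comp, ← CommRingCat.ofHom_comp,
      ← IsScalarTower.algebraMap_eq]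
  obtain ⟨v, hv⟩ := exists_const f φ hφ s D (gF ≫ g) hxF
  refine ⟨v, fun c hDc pc hpc hx => ?_⟩
  let P : Ideal (Polynomial K) := RingHom.ker (Polynomial.evalRingHom c)
  haveI : P.IsPrime := RingHom.ker_isPrime _
  let Ap := Localization.AtPrime P
  let io : Ap →+* RF K := IsLocalization.lift (M := P.primeCompl) (S := Ap)
    (g := algebraMap (Polynomial K) (RF K)) fun y => isUnit_iff_ne_zero.2 fun h => y.2 (by
      have h2 : (y : Polynomial K) = 0 := IsFractionRing.injective _ _ (h.trans (map_zero _).symm)
      rw [h2]; exact zero_mem _)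
  have hio : ∀ p, io (algebraMap _ _ p) = algebraMap (Polynomial K) (RF K) p := fun p => IsLocalization.lift_eq _ _
  let evc : Ap →+* K := IsLocalization.lift (M := P.primeCompl) (S := Ap) (g := Polynomial.evalRingHom c)
    fun y => isUnit_iff_ne_zero.2 fun h => y.2 h
  have hevc : ∀ p : Polynomial K, evc (algebraMap (Polynomial K) Ap p) = p.eval c := fun p => IsLocalization.lift_eq _ _
  have hin : Function.Injective io := by
    rw [IsLocalization.lift_injective_iff]
    intro a b
    exact ⟨fun h => congrArg _ ((IsLocalization.injective Ap (Ideal.primeCompl_le_nonZeroDivisors P)) h),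
      fun h => congrArg _ (IsFractionRing.injective _ _ h)⟩
  let j := Spec.map (CommRingCat.ofHom (algebraMap (Polynomial K) Ap))
  have hj0 : j = Spec.map (CommRingCat.ofHom (algebraMap (Polynomial K) Ap)) := rfl
  have hev : Spec.map (CommRingCat.ofHom evc) ≫ j = Spec.map (CommRingCat.ofHom (Polynomial.evalRingHom c)) := by
    rw [← Spec.map_comp]
    congr 1
    refine CommRingCat.hom_ext (RingHom.ext fun p => ?_)
    exact hevc p
  have hrj : Set.range j ⊆ Set.range W.ι := by
    rw [Scheme.Opens.range_ι]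
    rintro _ ⟨y, rfl⟩
    have hcl : Spec.map (CommRingCat.ofHom (Polynomial.evalRingHom c)) (IsLocalRing.closedPoint K) ∈ W := by
      rw [← hpc, Scheme.Hom.comp_apply]; exact (pc _).2
    rw [← hev, Scheme.Hom.comp_apply] at hcl
    refine (Specializes.map ?_ j.continuous).mem_open W.2 hcl
    have hclosed : Spec.map (CommRingCat.ofHom evc) (IsLocalRing.closedPoint K) = IsLocalRing.closedPoint Ap := by
      haveI : IsLocalHom evc := by
        refine ⟨fun z hz => ?_⟩
        obtain ⟨a, b, rfl⟩ := IsLocalization.exists_mk'_eq P.primeCompl z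
        rw [IsLocalization.AtPrime.isUnit_mk'_iff]
        intro ha
        rw [IsLocalization.lift_mk'] at hz
        exact hz.ne_zero (by rw [show (Polynomial.evalRingHom c) a = 0 from ha, zero_mul])
      exact IsLocalRing.comap_closedPoint evc
    rw [hclosed]
    exact IsLocalRing.specializes_closedPoint y
  let gP := IsOpenImmersion.lift W.ι j hrj
  have hxP : (gP ≫ g) ≫ f = Spec.map (CommRingCat.ofHom (algebraMap k Ap)) := by
    rw [Category.assoc, hg, IsOpenImmersion.lift_fac_assoc, hj0, ← Spec.map_comp, ← CommRingCat.ofHom_comp,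
      ← IsScalarTower.algebraMap_eq]
  choose E hE using fun a l => exists_der_ext (k := k) (R := Polynomial K) (S := Ap) P.primeCompl
    (fun p => algebraMap (Polynomial K) Ap (coeffDer (D a l) p)) (fun a b => by rw [map_add, map_add])
    (fun a b => by rw [coeffDer_mul, map_add, map_mul, map_mul])
    (fun c a => by rw [map_smul, ← IsScalarTower.toAlgHom_apply k (Polynomial K) Ap, map_smul]; rfl)
  have e1 := map_ptVal f (gP ≫ g) φ hφ s io (gF ≫ g) (by
      rw [← Category.assoc]
      congr 1
      rw [← cancel_mono W.ι, Category.assoc, IsOpenImmersion.lift_fac, IsOpenImmersion.lift_fac, ← Spec.map_comp]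
      congr 1
      refine CommRingCat.hom_ext (RingHom.ext fun p => ?_)
      exact hio p) hxP hxF E (fun a l => ratDer (D a l))
    fun a l y => der_comm_loc P.primeCompl io (E a l) (ratDer (D a l)) (fun r => by rw [hio, ratDer_poly, hE, hio]) y
  have e2 := map_ptVal f (gP ≫ g) φ hφ s evc (pc ≫ g) (by
      rw [← Category.assoc]
      congr 1
      rw [← cancel_mono W.ι, Category.assoc, IsOpenImmersion.lift_fac, hpc, hev]) hxP hx E D
    fun a l y => der_comm_loc P.primeCompl evc (E a l) (D a l) (fun r => by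
      rw [hevc, hE, hevc, eval_coeffDer (D a l) (hDc a l)]) y
  rw [hv, ← hio] at e1
  rw [e2, ← hin e1, hevc, Polynomial.eval_C]

end Groth.Agent.REq2
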