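import Groth.Agent.REq2.Arc
import Groth.Agent.REq2.Approx
import Groth.Agent.H23.RatExtend
import Groth.Prelude.Def_W4c5nonratstablectREq
import Mathlib.AlgebraicGeometry.Morphisms.Smooth
import Mathlib.AlgebraicGeometry.Morphisms.Preimmersion

/-!
Every rational point of a smooth retract rational variety is linked to a point of a given open set.
-/

universe u

open CategoryTheory Limits AlgebraicGeometry TopologicalSpace

namespace Groth.Agent.REq2

variable {k : Type u} [Field k] {X : Scheme.{u}} (f : X ⟶ Spec (CommRingCat.of k))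

theorem exists_chart [Smooth f] (p : X) : ∃ (W : X.Opens) (hW : IsAffineOpen W) (_ : p ∈ W) (kR : k →+* Γ(X, W)),
    kR.IsStandardSmooth ∧ hW.fromSpec ≫ f = Spec.map (CommRingCat.ofHom kR) := by
  obtain ⟨U, hU, W, hW, hpW, e, hs⟩ := Smooth.exists_isStandardSmooth f p
  obtain rfl : U = ⊤ := by
    refine Opens.ext (Set.eq_univ_of_forall fun y => ?_)
    have : Subsingleton (Spec (CommRingCat.of k)) := inferInstanceAs (Subsingleton (PrimeSpectrum k))
    rw [Subsingleton.elim y (f p)]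
    exact e hpW
  refine ⟨W, hW, hpW, (f.appLE ⊤ W e).hom.comp (Scheme.ΓSpecIso (CommRingCat.of k)).inv.hom, ?_, ?_⟩
  · exact RingHom.isStandardSmooth_respectsIso.2 _ (Scheme.ΓSpecIso (CommRingCat.of k)).commRingCatIsoToRingEquiv.symm hs
  · rw [← hU.SpecMap_appLE_fromSpec f hW e,
      show CommRingCat.ofHom ((f.appLE ⊤ W e).hom.comp (Scheme.ΓSpecIso (CommRingCat.of k)).inv.hom) =
        (Scheme.ΓSpecIso (CommRingCat.of k)).inv ≫ f.appLE ⊤ W e from rfl, Spec.map_comp]
    congr 1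
    rw [show hU = isAffineOpen_top _ from rfl, IsAffineOpen.fromSpec_top, Scheme.isoSpec_Spec_inv]

theorem exists_away_subset {R : Type u} [CommRing R] (O : (Spec (CommRingCat.of R)).Opens) {y : Spec (CommRingCat.of R)}
    (hy : y ∈ O) : ∃ g : R, g ∉ y.asIdeal ∧
      Set.range (Spec.map (CommRingCat.ofHom (algebraMap R (Localization.Away g)))) ⊆ O := by
  obtain ⟨_, ⟨g, rfl⟩, hyg, hg⟩ :=
    PrimeSpectrum.isTopologicalBasis_basic_opens.exists_subset_of_mem_open (show y ∈ (O : Set _) from hy) O.2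
  refine ⟨g, hyg, fun z hz => hg ?_⟩
  exact (PrimeSpectrum.localization_away_comap_range (Localization.Away g) g).le hz

theorem exists_link [Infinite k] [IsIntegral X] [Smooth f] [IsSeparated f]
    (hX : REq.IsRetractRational f) (U' : X.Opens) (hU' : (U' : Set X).Nonempty)
    (K : Type u) [Field K] [Algebra k K] (x : REq.Pts f K) :
    ∃ B : REq.Pts f K, REq.InOpen f U' B ∧ REq.ElemLink f K x B := by
  haveI : Infinite K := Infinite.of_injective _ (algebraMap k K).injective
  haveI : X.IsSeparated := Scheme.IsSeparated.mk (by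
    rw [← terminal.comp_from f]; infer_instance)
  obtain ⟨U, n, V, a, b, hne, hab, -, hb⟩ := hX
  let x0 := x.1 (IsLocalRing.closedPoint K)
  have hx0 : ∀ y, x.1 y = x0 := fun y => by
    have : Subsingleton (Spec (CommRingCat.of K)) := inferInstanceAs (Subsingleton (PrimeSpectrum K))
    exact congrArg x.1 (Subsingleton.elim _ _)
  obtain ⟨W, hW, hpW, kR, hkR, hkR'⟩ := exists_chart f x0
  haveI : Nonempty W := ⟨⟨x0, hpW⟩⟩
  letI := kR.toAlgebra
  haveI : Algebra.FiniteType k Γ(X, W) := by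
    haveI : Algebra.IsStandardSmooth k Γ(X, W) := hkR
    infer_instance
  obtain ⟨d, e, he, het⟩ := hkR.exists_etale_mvPolynomial
  have hxr : Set.range x.1 ⊆ Set.range hW.fromSpec := by
    rw [hW.range_fromSpec]; rintro _ ⟨y, rfl⟩; rw [hx0]; exact hpW
  let xR : Γ(X, W) →+* K := (Spec.preimage (IsOpenImmersion.lift hW.fromSpec x.1 hxr)).hom
  have hxR : Spec.map (CommRingCat.ofHom xR) ≫ hW.fromSpec = x.1 := by
    simp [xR, Spec.map_preimage]
  have hxk : xR.comp kR = algebraMap k K := by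
    have : CommRingCat.ofHom (xR.comp kR) = CommRingCat.ofHom (algebraMap k K) := by
      apply Spec.map_injective
      rw [CommRingCat.ofHom_comp, Spec.map_comp, ← hkR', reassoc_of% hxR, x.2]
    exact congrArg CommRingCat.Hom.hom this
  -- a basic open inside W, U and U'
  have hz : ∀ O : X.Opens, (O : Set X).Nonempty → genericPoint X ∈ O := fun O hO =>
    H23.RatExtend.genericPoint_mem O hO.choose_spec
  have hzW : genericPoint X ∈ Set.range hW.fromSpec := by rw [hW.range_fromSpec]; exact hz W ⟨x0, hpW⟩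
  obtain ⟨η, hη⟩ := hzW
  obtain ⟨g, hgη, hg⟩ := exists_away_subset (hW.fromSpec ⁻¹ᵁ (U ⊓ U')) (y := η)
    (show hW.fromSpec η ∈ U ⊓ U' from hη ▸ ⟨hz U hne, hz U' hU'⟩)
  let eg := Spec.map (CommRingCat.ofHom (algebraMap Γ(X, W) (Localization.Away g)))
  haveI : IsOpenImmersion eg := IsOpenImmersion.of_isLocalization g
  let Dg : X.Opens := (eg ≫ hW.fromSpec).opensRange
  have hDgU : Dg ≤ U ⊓ U' := by
    rintro _ ⟨y, rfl⟩
    exact hg ⟨y, rfl⟩
  have hgen : genericPoint X ∈ Dg := by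
    have : η ∈ Set.range eg := (PrimeSpectrum.localization_away_comap_range (Localization.Away g) g).ge hgη
    obtain ⟨y, hy⟩ := this
    exact ⟨y, by rw [Scheme.Hom.comp_apply, hy, hη]⟩
  let z0 : (U : Scheme.{u}) := ⟨genericPoint X, hz U hne⟩
  let P := MvPolynomial (Fin n) k
  let O : V.toScheme.Opens := (b ≫ U.ι) ⁻¹ᵁ Dg
  have hO : a z0 ∈ O := by
    show (a ≫ b ≫ U.ι) z0 ∈ Dg
    rw [reassoc_of% hab]
    exact hgen
  obtain ⟨G, hGa, hG⟩ := exists_away_subset (V.ι ''ᵁ O) (y := (a ≫ V.ι) z0) ⟨a z0, hO, rfl⟩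
  let eG := Spec.map (CommRingCat.ofHom (algebraMap P (Localization.Away G)))
  haveI : IsOpenImmersion eG := IsOpenImmersion.of_isLocalization G
  have hGV : Set.range eG ⊆ Set.range V.ι := hG.trans (by rintro _ ⟨o, -, rfl⟩; exact ⟨o, rfl⟩)
  let lG := IsOpenImmersion.lift V.ι eG hGV
  have hlG : Set.range (lG ≫ b ≫ U.ι) ⊆ Set.range hW.fromSpec := by
    rintro _ ⟨y, rfl⟩
    obtain ⟨o, ho, hoy⟩ := hG ⟨y, rfl⟩
    have : lG y = o := V.ι.isOpenEmbedding.injective (by
      rw [← Scheme.Hom.comp_apply, IsOpenImmersion.lift_fac]; exact hoy.symm)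
    rw [Scheme.Hom.comp_apply, this]
    obtain ⟨t, ht⟩ := (show (b ≫ U.ι) o ∈ Dg from ho)
    exact ⟨eg t, ht⟩
  let β : Γ(X, W) →+* Localization.Away G := (Spec.preimage (IsOpenImmersion.lift hW.fromSpec _ hlG)).hom
  have hβ : Spec.map (CommRingCat.ofHom β) ≫ hW.fromSpec = lG ≫ b ≫ U.ι := by simp [β, Spec.map_preimage]
  have hβk : ∀ c, β (kR c) = algebraMap P _ (MvPolynomial.C c) := by
    have : CommRingCat.ofHom (β.comp kR) =
        CommRingCat.ofHom ((algebraMap P (Localization.Away G)).comp (algebraMap k P)) := by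
      apply Spec.map_injective
      rw [CommRingCat.ofHom_comp, Spec.map_comp, ← hkR', reassoc_of% hβ, hb, IsOpenImmersion.lift_fac_assoc]
      exact (Spec.map_comp _ _).symm
    exact fun c => RingHom.congr_fun (congrArg CommRingCat.Hom.hom this) c
  -- a retraction on a smaller basic open
  let O1 : X.Opens := U.ι ''ᵁ ((a ≫ V.ι) ⁻¹ᵁ eG.opensRange)
  have hO1 : genericPoint X ∈ O1 := ⟨z0, (PrimeSpectrum.localization_away_comap_range (Localization.Away G) G).ge hGa, rfl⟩
  obtain ⟨g', hg'η, hg'⟩ := exists_away_subset (hW.fromSpec ⁻¹ᵁ (O1 ⊓ Dg)) (y := η)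
    (show hW.fromSpec η ∈ O1 ⊓ Dg from hη ▸ ⟨hO1, hgen⟩)
  let eg' := Spec.map (CommRingCat.ofHom (algebraMap Γ(X, W) (Localization.Away g')))
  have hgU : Set.range (eg' ≫ hW.fromSpec) ⊆ Set.range U.ι := by
    rintro _ ⟨y, rfl⟩
    obtain ⟨o, -, ho⟩ := (hg' ⟨y, rfl⟩).1
    exact ⟨o, ho⟩
  let lU := IsOpenImmersion.lift U.ι (eg' ≫ hW.fromSpec) hgU
  have hlU : Set.range (lU ≫ a ≫ V.ι) ⊆ Set.range eG := by
    rintro _ ⟨y, rfl⟩
    obtain ⟨o, ho, ho'⟩ := (hg' ⟨y, rfl⟩).1
    have : lU y = o := U.ι.isOpenEmbedding.injective (by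
      rw [← Scheme.Hom.comp_apply, IsOpenImmersion.lift_fac]; exact ho'.symm)
    rw [Scheme.Hom.comp_apply, this]
    exact ho
  let α : Localization.Away G →+* Localization.Away g' := (Spec.preimage (IsOpenImmersion.lift eG _ hlU)).hom
  have hα : Spec.map (CommRingCat.ofHom α) ≫ eG = lU ≫ a ≫ V.ι := by simp [α, Spec.map_preimage]
  have hα' : Spec.map (CommRingCat.ofHom α) ≫ lG = lU ≫ a := by
    rw [← cancel_mono V.ι, Category.assoc, IsOpenImmersion.lift_fac, hα, Category.assoc]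
  have hαβ : ∀ r, α (β r) = algebraMap Γ(X, W) _ r := by
    have : CommRingCat.ofHom (α.comp β) = CommRingCat.ofHom (algebraMap Γ(X, W) (Localization.Away g')) := by
      apply Spec.map_injective
      rw [← cancel_mono hW.fromSpec, CommRingCat.ofHom_comp, Spec.map_comp, Category.assoc, hβ,
        reassoc_of% hα', reassoc_of% hab, IsOpenImmersion.lift_fac]
    exact fun r => RingHom.congr_fun (congrArg CommRingCat.Hom.hom this) r
  -- the arc
  have hg0 : ∀ h : Γ(X, W), h ∉ η.asIdeal → h ≠ 0 := fun h hh h0 => hh (h0 ▸ zero_mem _)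
  obtain ⟨q, hqk, hqx, hqg⟩ := exists_arc kR (algebraMap k K) e he het xR hxk
    (g := g * g') (mul_ne_zero (hg0 g hgη) (hg0 g' hg'η))
  rw [map_mul] at hqg
  have hu : IsUnit (((io K).comp q) g') := isUnit_iff_ne_zero.2
    ((map_ne_zero_iff _ HahnSeries.ofPowerSeries_injective).2 (right_ne_zero_of_mul hqg))
  let w : Localization.Away G →+* LaurentSeries K := (IsLocalization.Away.lift g' hu).comp α
  have hw : ∀ r, w (β r) = io K (q r) := fun r => by
    show IsLocalization.Away.lift g' hu (α (β r)) = _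
    rw [hαβ, IsLocalization.Away.lift_eq]; rfl
  obtain ⟨ψ, hψk, hψ0, hψg⟩ := exists_curve (algebraMap k K) G β hβk w q
    (fun c => RingHom.congr_fun hqk c) hw (g := g) (left_ne_zero_of_mul hqg)
  -- the curve
  let sP : REq.P1K K ⟶ Spec (CommRingCat.of k) := REq.P1K.toSpec K ≫ REq.specMap k K
  let ch := H23.P1Charts.chart K 0
  let j := Spec.map (CommRingCat.ofHom (algebraMap (Polynomial K) (A0 K)))
  haveI : IsPreimmersion j := IsPreimmersion.of_isLocalization (m0 K).primeCompl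
  haveI : Flat j := Flat.SpecMap_iff.2 (RingHom.flat_algebraMap_iff.2 (IsLocalization.flat _ (m0 K).primeCompl))
  haveI : IsDomain (A0 K) := ioF_injective.isDomain _
  let π : Spec (CommRingCat.of (A0 K)) ⟶ REq.P1K K := j ≫ ch
  let φ0 : Spec (CommRingCat.of (A0 K)) ⟶ X := Spec.map (CommRingCat.ofHom ψ) ≫ hW.fromSpec
  have hch : ch ≫ REq.P1K.toSpec K = Spec.map (CommRingCat.ofHom Polynomial.C) := H23.P1Charts.chart_toBase K 0
  have hφ0 : φ0 ≫ f = π ≫ sP := by
    simp only [φ0, π, sP, Category.assoc, hkR', reassoc_of% hch, j, REq.specMap, ← Spec.map_comp]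
    congr 1
    ext c
    exact hψk c
  have hgenπ : π (genericPoint (Spec (CommRingCat.of (A0 K)))) = genericPoint (REq.P1K K) := by
    rw [← genericPoint_eq_of_isOpenImmersion ch, Scheme.Hom.comp_apply]
    congr 1
    rw [genericPoint_eq_bot_of_affine, genericPoint_eq_bot_of_affine]
    refine PrimeSpectrum.ext ?_
    exact Ideal.comap_bot_of_injective _ (IsLocalization.injective (A0 K) (Ideal.primeCompl_le_nonZeroDivisors (m0 K)))
  obtain ⟨T, H, hT, hH, hTH⟩ := H23.RatExtend.exists_spread sP f π hgenπ φ0 hφ0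
  let pt : K → (Spec (CommRingCat.of K) ⟶ REq.P1K K) :=
    fun c => Spec.map (CommRingCat.ofHom (Polynomial.evalRingHom c)) ≫ ch
  have hsec : ∀ c (hc : Set.range (pt c) ⊆ Set.range T.ι),
      IsOpenImmersion.lift T.ι (pt c) hc ≫ T.ι ≫ REq.P1K.toSpec K = 𝟙 _ := fun c hc => by
    rw [IsOpenImmersion.lift_fac_assoc]
    simp only [pt, Category.assoc, hch, ← Spec.map_comp]
    rw [show CommRingCat.ofHom (Polynomial.C (R := K)) ≫ CommRingCat.ofHom (Polynomial.evalRingHom c) = 𝟙 _ by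
      ext r; simp, Spec.map_id]
  -- the origin
  have ht0 : Spec.map (CommRingCat.ofHom (ev0 K)) ≫ π = pt 0 := by
    simp only [π, pt, ← Category.assoc, j, ← Spec.map_comp]
    congr 2
    refine CommRingCat.hom_ext (RingHom.ext fun p => ?_)
    exact ev0_algebraMap p
  have hr0 : Set.range (pt 0) ⊆ Set.range T.ι := by
    rw [Scheme.Opens.range_ι, ← ht0]
    rintro _ ⟨y, rfl⟩
    exact hT ⟨_, rfl⟩
  have hA : IsOpenImmersion.lift T.ι (pt 0) hr0 ≫ H = x.1 := by
    rw [hTH (Spec.map (CommRingCat.ofHom (ev0 K))) _ (by rw [IsOpenImmersion.lift_fac, ht0]), ← hxR]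
    simp only [φ0, ← Category.assoc, ← Spec.map_comp]
    congr 2
    ext r
    exact (hψ0 r).trans (RingHom.congr_fun hqx r)
  -- a point in U'
  have hη' : ∃ y : T.toScheme, H y ∈ U' := by
    let q0 : Spec (CommRingCat.of (A0 K)) := genericPoint (Spec (CommRingCat.of (A0 K)))
    have hr : Set.range π ⊆ Set.range T.ι := by rwa [Scheme.Opens.range_ι]
    refine ⟨IsOpenImmersion.lift T.ι π hr q0, ?_⟩
    have h1 := hTH (𝟙 _) (IsOpenImmersion.lift T.ι π hr) (by rw [IsOpenImmersion.lift_fac, Category.id_comp])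
    rw [Category.id_comp] at h1
    rw [← Scheme.Hom.comp_apply, h1]
    have hmem : (Spec.map (CommRingCat.ofHom ψ)) q0 ∈ Set.range eg := by
      refine (PrimeSpectrum.localization_away_comap_range (Localization.Away g) g).ge ?_
      show g ∉ Ideal.comap ψ q0.asIdeal
      simp only [q0, genericPoint_eq_bot_of_affine]
      intro hm
      exact hψg (by rw [show ψ g = 0 from hm, map_zero])
    obtain ⟨y, hy⟩ := hmem
    exact (hDgU ⟨y, by rw [Scheme.Hom.comp_apply, hy]; rfl⟩).2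
  obtain ⟨y, hy⟩ := hη'
  let O2 : (REq.P1K K).Opens := T.ι ''ᵁ (H ⁻¹ᵁ U')
  have hO2 : genericPoint (REq.P1K K) ∈ O2 := H23.RatExtend.genericPoint_mem O2 ⟨y, hy, rfl⟩
  have hO2' : genericPoint (Spec (CommRingCat.of (Polynomial K))) ∈ ch ⁻¹ᵁ O2 := by
    show ch _ ∈ O2
    rw [genericPoint_eq_of_isOpenImmersion ch]; exact hO2
  obtain ⟨p, hp, hpO⟩ := exists_away_subset _ hO2'
  have hp0 : p ≠ 0 := fun h => hp (h ▸ zero_mem _)
  obtain ⟨c, hc⟩ : ∃ c : K, p.eval c ≠ 0 := by
    by_contra! hall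
    exact hp0 (Polynomial.funext fun c => by rw [hall c, Polynomial.eval_zero])
  have hcO : ∀ z, pt c z ∈ O2 := fun z => by
    have h1 : Spec.map (CommRingCat.ofHom (Polynomial.evalRingHom c)) z ∈ Set.range
        (Spec.map (CommRingCat.ofHom (algebraMap (Polynomial K) (Localization.Away p)))) := by
      refine (PrimeSpectrum.localization_away_comap_range (Localization.Away p) p).ge ?_
      show p ∉ Ideal.comap (Polynomial.evalRingHom c) z.asIdeal
      intro hm
      exact z.2.ne_top (Ideal.eq_top_of_isUnit_mem _ hm (isUnit_iff_ne_zero.2 hc))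
    exact hpO h1
  have hrc : Set.range (pt c) ⊆ Set.range T.ι := by
    rintro _ ⟨z, rfl⟩
    obtain ⟨o, -, ho⟩ := hcO z
    exact ⟨o, ho⟩
  refine ⟨⟨IsOpenImmersion.lift T.ι (pt c) hrc ≫ H, ?_⟩, ?_, T, H, _, _, hH, hsec 0 hr0, hsec c hrc, hA, rfl⟩
  · rw [Category.assoc, hH, reassoc_of% (hsec c hrc)]
  · rintro _ ⟨z, rfl⟩
    obtain ⟨o, ho, ho'⟩ := hcO z
    have : IsOpenImmersion.lift T.ι (pt c) hrc z = o := T.ι.isOpenEmbedding.injective (by
      rw [← Scheme.Hom.comp_apply, IsOpenImmersion.lift_fac]; exact ho'.symm)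
    show (IsOpenImmersion.lift T.ι (pt c) hrc ≫ H) z ∈ U'
    rw [Scheme.Hom.comp_apply, this]
    exact ho

end Groth.Agent.REq2
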