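import Groth.Agent.REq2.FormVal
import Groth.Agent.REq2.Approx
import Mathlib.AlgebraicGeometry.Stalk
import Mathlib.RingTheory.Etale.Kaehler

/-!
Values of a global tensor of forms at points with values in local algebras; derivations.
-/

universe u

open CategoryTheory AlgebraicGeometry TopologicalSpace Opposite

namespace Groth.Agent.REq2

section Der

variable {k R S : Type u} [CommRing k] [CommRing R] [CommRing S] [Algebra k R] [Algebra k S] [Algebra R S]
  [IsScalarTower k R S]

theorem exists_der_ext (M : Submonoid R) [IsLocalization M S] (D : R → S) (hadd : ∀ a b, D (a + b) = D a + D b)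
    (hmul : ∀ a b, D (a * b) = algebraMap R S a * D b + algebraMap R S b * D a)
    (hsmul : ∀ (c : k) a, D (c • a) = c • D a) :
    ∃ D' : Derivation k S S, ∀ r, D' (algebraMap R S r) = D r := by
  haveI : Algebra.FormallyEtale R S := Algebra.FormallyEtale.of_isLocalization M
  let D₀ : Derivation k R S := Derivation.mk' { toFun := D, map_add' := hadd, map_smul' := hsmul }
    fun a b => by
      show D (a * b) = a • D b + b • D a
      rw [hmul, Algebra.smul_def, Algebra.smul_def]
  have hbc := KaehlerDifferential.isBaseChange_of_formallyEtale k R S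
  refine ⟨(hbc.lift D₀.liftKaehlerDifferential).compDer (KaehlerDifferential.D k S), fun r => ?_⟩
  show hbc.lift D₀.liftKaehlerDifferential (KaehlerDifferential.D k S (algebraMap R S r)) = _
  rw [← KaehlerDifferential.map_D k k R S r]
  exact (hbc.lift_eq D₀.liftKaehlerDifferential _).trans (Derivation.liftKaehlerDifferential_comp_D D₀ r)

theorem der_comm_loc {F : Type u} [CommRing F] [Algebra k F] (M : Submonoid R) [IsLocalization M S] (h : S →+* F)
    (D : Derivation k S S) (E : Derivation k F F)
    (hr : ∀ r, E (h (algebraMap R S r)) = h (D (algebraMap R S r))) (a : S) : E (h a) = h (D a) := by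
  obtain ⟨⟨r, s⟩, hs⟩ := IsLocalization.surj M a
  have e1 := congrArg (fun x => E (h x)) hs
  have e2 := congrArg (fun x => h (D x)) hs
  simp only [map_mul, Derivation.leibniz, smul_eq_mul, map_add, hr] at e1 e2
  have hu : IsUnit (h (algebraMap R S (s : R))) := (IsLocalization.map_units S s).map h
  exact hu.mul_left_cancel (add_left_cancel (e1.trans e2.symm))

end Der

variable {k K : Type u} [Field k] [Field K] [Algebra k K]

/-- A derivation applied to coefficients. -/
noncomputable def coeffDer (D : Derivation k K K) : Polynomial K →ₗ[k] Polynomial K :=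
  Polynomial.lsum fun n => ((Polynomial.monomial n).restrictScalars k) ∘ₗ D.toLinearMap

theorem coeffDer_monomial (D : Derivation k K K) (n : ℕ) (a : K) :
    coeffDer D (Polynomial.monomial n a) = Polynomial.monomial n (D a) := by
  rw [coeffDer, Polynomial.lsum_apply, Polynomial.sum_monomial_index]
  · rfl
  · simp

theorem coeffDer_C (D : Derivation k K K) (a : K) : coeffDer D (Polynomial.C a) = Polynomial.C (D a) :=
  coeffDer_monomial D 0 a

theorem coeffDer_mul (D : Derivation k K K) (p q : Polynomial K) :
    coeffDer D (p * q) = p * coeffDer D q + q * coeffDer D p := by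
  induction p using Polynomial.induction_on' with
  | add a b ha hb => rw [add_mul, map_add, ha, hb, map_add]; ring
  | monomial m a =>
    induction q using Polynomial.induction_on' with
    | add c d hc hd => rw [mul_add, map_add, hc, hd, map_add]; ring
    | monomial n b =>
      simp only [Polynomial.monomial_mul_monomial, coeffDer_monomial, Derivation.leibniz, smul_eq_mul, map_add]
      rw [add_comm n m]

theorem eval_coeffDer (D : Derivation k K K) {c : K} (hc : D c = 0) (p : Polynomial K) :
    (coeffDer D p).eval c = D (p.eval c) := by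
  induction p using Polynomial.induction_on' with
  | add a b ha hb => rw [map_add, Polynomial.eval_add, ha, hb, Polynomial.eval_add, map_add]
  | monomial n a =>
    rw [coeffDer_monomial, Polynomial.eval_monomial, Polynomial.eval_monomial, D.leibniz, D.leibniz_pow, hc]
    simp [smul_eq_mul, mul_comm]

theorem exists_der_rat (D : Derivation k K K) : ∃ E : Derivation k (FractionRing (Polynomial K)) (FractionRing (Polynomial K)),
    (∀ p, E (algebraMap (Polynomial K) _ p) = algebraMap (Polynomial K) _ (coeffDer D p)) ∧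
    ∃ E₀ : Derivation k (A0 K) (A0 K), (∀ a, E (ioF K a) = ioF K (E₀ a)) ∧
      ∀ a, D (ev0 K a) = ev0 K (E₀ a) := by
  obtain ⟨E, hE⟩ := exists_der_ext (k := k) (R := Polynomial K) (S := FractionRing (Polynomial K)) (nonZeroDivisors _)
    (fun p => algebraMap (Polynomial K) _ (coeffDer D p)) (fun a b => by rw [map_add, map_add])
    (fun a b => by rw [coeffDer_mul, map_add, map_mul, map_mul])
    (fun c a => by rw [map_smul, ← IsScalarTower.toAlgHom_apply k (Polynomial K) (FractionRing (Polynomial K)), map_smul]; rfl)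
  obtain ⟨E₀, hE₀⟩ := exists_der_ext (k := k) (R := Polynomial K) (S := A0 K) (m0 K).primeCompl
    (fun p => algebraMap (Polynomial K) _ (coeffDer D p)) (fun a b => by rw [map_add, map_add])
    (fun a b => by rw [coeffDer_mul, map_add, map_mul, map_mul])
    (fun c a => by rw [map_smul, ← IsScalarTower.toAlgHom_apply k (Polynomial K) (A0 K), map_smul]; rfl)
  refine ⟨E, hE, E₀, fun a => ?_, fun a => ?_⟩
  · exact der_comm_loc (m0 K).primeCompl (ioF K) E₀ E (fun r => by
      rw [ioF_algebraMap, hE, hE₀, ioF_algebraMap]) a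
  · exact der_comm_loc (m0 K).primeCompl (ev0 K) E₀ D (fun r => by
      rw [ev0_algebraMap, hE₀, ev0_algebraMap, eval_coeffDer D (map_zero D)]) a

variable {X : Scheme.{u}} (f : X ⟶ Spec (CommRingCat.of k))

theorem fromSpecStalk_comp (q : X) :
    X.fromSpecStalk q ≫ f =
      Spec.map (CommRingCat.ofHom ((X.presheaf.germ ⊤ q trivial).hom.comp (cst f ⊤))) := by
  obtain ⟨_, ⟨V, hV, rfl⟩, hqV, -⟩ := X.isBasis_affineOpens.exists_subset_of_mem_open (Set.mem_univ q) isOpen_univ
  have e1 : hV.fromSpec ≫ f = Spec.map (CommRingCat.ofHom (cst f V)) := by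
    rw [show CommRingCat.ofHom (cst f V) = (Scheme.ΓSpecIso (CommRingCat.of k)).inv ≫ f.appLE ⊤ V le_top from rfl,
      Spec.map_comp, ← IsAffineOpen.SpecMap_appLE_fromSpec f (isAffineOpen_top _) hV le_top,
      IsAffineOpen.fromSpec_top, Scheme.isoSpec_Spec_inv]
  rw [← hV.fromSpecStalk_eq_fromSpecStalk hqV, IsAffineOpen.fromSpecStalk, Category.assoc, e1, ← Spec.map_comp]
  congr 1
  ext c
  exact germ_cst f V hqV c

theorem overK_iff {q : X} {A : Type u} [CommRing A] [Algebra k A] (χ : X.presheaf.stalk q →+* A) :
    OverK f χ ↔ Spec.map (CommRingCat.ofHom χ) ≫ X.fromSpecStalk q ≫ f =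
      Spec.map (CommRingCat.ofHom (algebraMap k A)) := by
  rw [fromSpecStalk_comp, ← Spec.map_comp]
  constructor
  · intro h
    congr 1
    ext c
    exact h c
  · intro h c
    exact RingHom.congr_fun (congrArg CommRingCat.Hom.hom (Spec.map_injective h)) c

variable {A : Type u} [CommRing A] [IsLocalRing A] [Algebra k A] (x : Spec (CommRingCat.of A) ⟶ X)

/-- The ring map of a point. -/
noncomputable def ptChi : X.presheaf.stalk (x (IsLocalRing.closedPoint A)) →+* A :=
  (Scheme.stalkClosedPointTo x).hom

theorem ptChi_spec : Spec.map (CommRingCat.ofHom (ptChi x)) ≫ X.fromSpecStalk _ = x :=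
  Scheme.Spec_stalkClosedPointTo_fromSpecStalk x

theorem overK_ptChi (hx : x ≫ f = Spec.map (CommRingCat.ofHom (algebraMap k A))) : OverK f (ptChi x) := by
  rw [overK_iff, ← hx]
  exact (reassoc_of% (ptChi_spec x)) f

variable {i : ℕ} {L : X.Modules}
  (φ : ∀ U : X.affineOpens, (L.val.obj (op U.1)) ≃ₗ[Γ(X, U.1)]
    ↥(⋀[Γ(X, U.1)]^i ((Omega.sheaf f).val.obj (op U.1))))
  (hφ : PhiComp f φ) [QuasiSeparated f] {m : ℕ} (s : Γ(CohB1.tensorPow L m, ⊤))

/-- The value at a point. -/
noncomputable def ptVal (hx : x ≫ f = Spec.map (CommRingCat.ofHom (algebraMap k A)))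
    (D : ℕ → Fin i → Derivation k A A) : A :=
  (powVal f φ hφ (overK_ptChi f x hx) m D).toHom (gS _ ⊤ (q := x (IsLocalRing.closedPoint A)) trivial s)

theorem map_ptVal {A' : Type u} [CommRing A'] [IsLocalRing A'] [Algebra k A'] (h : A →+* A')
    (x' : Spec (CommRingCat.of A') ⟶ X) (hc : Spec.map (CommRingCat.ofHom h) ≫ x = x')
    (hx : x ≫ f = Spec.map (CommRingCat.ofHom (algebraMap k A)))
    (hx' : x' ≫ f = Spec.map (CommRingCat.ofHom (algebraMap k A')))
    (D : ℕ → Fin i → Derivation k A A) (D' : ℕ → Fin i → Derivation k A' A')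
    (hD : ∀ a l y, D' a l (h y) = h (D a l y)) :
    ptVal f x' φ hφ s hx' D' = h (ptVal f x φ hφ s hx D) := by
  have hsp : x' (IsLocalRing.closedPoint A') ⤳ x (IsLocalRing.closedPoint A) := by
    rw [← hc, Scheme.Hom.comp_apply]
    exact (IsLocalRing.specializes_closedPoint _).map x.continuous
  refine powVal_spec f φ hsp h (fun c => ?_) hφ (overK_ptChi f x hx) (overK_ptChi f x' hx') m D D' hD ⊤ trivial s
  have : (X.presheaf.stalkSpecializes hsp) ≫ CommRingCat.ofHom (ptChi x') =
      CommRingCat.ofHom (ptChi x) ≫ CommRingCat.ofHom h := by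
    apply Spec.map_injective
    rw [← cancel_mono (X.fromSpecStalk (x (IsLocalRing.closedPoint A))), Spec.map_comp, Spec.map_comp,
      Category.assoc, Category.assoc, Scheme.SpecMap_stalkSpecializes_fromSpecStalk]
    exact (ptChi_spec x').trans (hc.symm.trans (congrArg (Spec.map (CommRingCat.ofHom h) ≫ ·) (ptChi_spec x).symm))
  exact RingHom.congr_fun (congrArg CommRingCat.Hom.hom this) c

end Groth.Agent.REq2
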