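import Groth.Agent.InvX.Tensor

/-!
Semilinear forms on stalks of sheaves of modules.
-/

universe u

open CategoryTheory AlgebraicGeometry TopologicalSpace Opposite MonoidalCategory
open scoped TensorProduct

set_option backward.isDefEq.respectTransparency false
set_option backward.isDefEq.respectTransparency.types false

namespace Groth.Agent.REq2

open Groth.Agent.AModX

variable {X : Scheme.{u}}

/-- The stalk as a module over the local ring. -/
noncomputable abbrev stk (M : X.Modules) (q : X) : Type u := KFlatLib.stalkMod q (CohB1.toPMod M)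

/-- Germs. -/
noncomputable def gS (M : X.Modules) (U : X.Opens) {q : X} (hq : q ∈ U) : Γ(M, U) →+ stk M q :=
  KFlatLib.germP (CohB1.toPMod M) U hq

variable {M N : X.Modules} {q : X}

theorem gS_res {U V : X.Opens} (h : V ≤ U) (hq : q ∈ V) (s : Γ(M, U)) :
    gS M V hq (res M h s) = gS M U (h hq) s :=
  KFlatLib.germP_res (P := CohB1.toPMod M) (homOfLE h) hq s

theorem gS_smul {U : X.Opens} (hq : q ∈ U) (r : Γ(X, U)) (s : Γ(M, U)) :
    gS M U hq (r • s) = X.presheaf.germ U q hq r • gS M U hq s :=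
  KFlatLib.germP_smul (P := CohB1.toPMod M) U hq r s

theorem exists_affine_rep {W : X.Opens} (hW : q ∈ W) (x : stk M q) :
    ∃ (V : X.Opens) (_ : IsAffineOpen V) (hqV : q ∈ V) (s : Γ(M, V)), V ≤ W ∧ gS M V hqV s = x := by
  obtain ⟨U, hqU, s, rfl⟩ := KFlatLib.exists_germP (P := CohB1.toPMod M) x
  obtain ⟨_, ⟨V, hV, rfl⟩, hqV, hVU⟩ :=
    X.isBasis_affineOpens.exists_subset_of_mem_open (show q ∈ U ⊓ W from ⟨hqU, hW⟩) (U ⊓ W).2
  exact ⟨V, hV, hqV, res M (hVU.trans inf_le_left) s, fun y hy => (hVU hy).2, gS_res _ hqV s⟩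

/-- The same on any smaller open and any rings. -/
theorem exists_common {U : X.Opens} (hU : q ∈ U) (x : stk M q) (c : X.presheaf.stalk q) :
    ∃ (V : X.Opens) (_ : IsAffineOpen V) (hqV : q ∈ V) (s : Γ(M, V)) (r : Γ(X, V)),
      V ≤ U ∧ gS M V hqV s = x ∧ X.presheaf.germ V q hqV r = c := by
  obtain ⟨U₁, h₁, r, rfl⟩ := X.presheaf.exists_germ_eq (x := q) c
  obtain ⟨V, hV, hqV, s, hle, hs⟩ := exists_affine_rep (show q ∈ U ⊓ U₁ from ⟨hU, h₁⟩) x
  exact ⟨V, hV, hqV, s, resR (hle.trans inf_le_right) r, hle.trans inf_le_left, hs, InvX.germ_resR' _ _ _⟩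

variable {A : Type u} [CommRing A] (χ : X.presheaf.stalk q →+* A)

/-- Semilinear forms on the stalk. -/
structure Val (M : X.Modules) where
  /-- the form -/
  toHom : stk M q →+ A
  map_smul : ∀ (c : X.presheaf.stalk q) (x : stk M q), toHom (c • x) = χ c * toHom x

theorem exists_desc (f : ∀ V : X.affineOpens, q ∈ V.1 → (Γ(M, V.1) →+ A))
    (hres : ∀ (V V' : X.affineOpens) (h : V'.1 ≤ V.1) (hq : q ∈ V'.1) (s : Γ(M, V.1)),
      f V' hq (res M h s) = f V (h hq) s)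
    (hsmul : ∀ (V : X.affineOpens) (hq : q ∈ V.1) (r : Γ(X, V.1)) (s : Γ(M, V.1)),
      f V hq (r • s) = χ (X.presheaf.germ V.1 q hq r) * f V hq s) :
    ∃ Φ : Val χ M, ∀ (V : X.affineOpens) (hq : q ∈ V.1) (s : Γ(M, V.1)), Φ.toHom (gS M V.1 hq s) = f V hq s := by
  classical
  have hch : ∀ U : X.Opens, q ∈ U → ∃ V : X.affineOpens, q ∈ V.1 ∧ V.1 ≤ U := fun U hU => by
    obtain ⟨_, ⟨V, hV, rfl⟩, hqV, hVU⟩ := X.isBasis_affineOpens.exists_subset_of_mem_open hU U.2
    exact ⟨⟨V, hV⟩, hqV, hVU⟩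
  choose c hc hc' using hch
  let g : ∀ (U : X.Opens), q ∈ U → ((CohB1.toPMod M).obj (op U) →+ A) := fun U hU =>
    { toFun := fun s => f (c U hU) (hc U hU) (res M (hc' U hU) (show Γ(M, U) from s))
      map_zero' := by
        show f _ _ (res M _ (0 : Γ(M, U))) = 0
        rw [map_zero, map_zero]
      map_add' := fun s t => by
        show f _ _ (res M _ ((show Γ(M, U) from s) + (show Γ(M, U) from t))) = _
        rw [map_add, map_add] }
  have key : ∀ (U : X.Opens) (hU : q ∈ U) (V : X.affineOpens) (hq : q ∈ V.1) (h : V.1 ≤ U) (s : Γ(M, U)),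
      g U hU s = f V hq (res M h s) := fun U hU V hq h s => by
    obtain ⟨_, ⟨V', hV', rfl⟩, hqV', hle⟩ := X.isBasis_affineOpens.exists_subset_of_mem_open
      (show q ∈ (c U hU).1 ⊓ V.1 from ⟨hc U hU, hq⟩) ((c U hU).1 ⊓ V.1).2
    have e1 := hres (c U hU) ⟨V', hV'⟩ (fun y hy => (hle hy).1) hqV' (res M (hc' U hU) s)
    have e2 := hres V ⟨V', hV'⟩ (fun y hy => (hle hy).2) hqV' (res M h s)
    rw [res_res] at e1 e2
    exact e1.symm.trans e2
  have hg : ∀ (U V : X.Opens) (i : V ⟶ U) (hx : q ∈ V) (s : (CohB1.toPMod M).obj (op U)),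
      g V hx (KFlatLib.res (CohB1.toPMod M) i s) = g U (i.le hx) s := fun U V i hx s => by
    refine (key V hx (c V hx) (hc V hx) (hc' V hx) _).trans ?_
    rw [key U (i.le hx) (c V hx) (hc V hx) ((hc' V hx).trans i.le) s]
    exact congrArg _ (res_res _ _ _)
  let Φ := KFlatLib.descP g hg
  have hΦ : ∀ (V : X.affineOpens) (hq : q ∈ V.1) (s : Γ(M, V.1)), Φ (gS M V.1 hq s) = f V hq s := fun V hq s =>
    (KFlatLib.descP_germP g hg V.1 hq s).trans ((key V.1 hq V hq le_rfl s).trans (congrArg _ (res_self s)))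
  refine ⟨⟨Φ, fun a x => ?_⟩, hΦ⟩
  obtain ⟨V, hV, hqV, s, r, -, rfl, rfl⟩ := exists_common (U := ⊤) trivial x a
  rw [← gS_smul, hΦ ⟨V, hV⟩, hΦ ⟨V, hV⟩, hsmul ⟨V, hV⟩]

theorem exists_gS_pair (a : stk M q) (b : stk N q) :
    ∃ (V : X.Opens) (_ : IsAffineOpen V) (hqV : q ∈ V) (s : Γ(M, V)) (t : Γ(N, V)),
      gS M V hqV s = a ∧ gS N V hqV t = b := by
  obtain ⟨U, -, hqU, t, -, ht⟩ := exists_affine_rep (W := ⊤) trivial b
  obtain ⟨V, hV, hqV, s, hle, hs⟩ := exists_affine_rep hqU a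
  exact ⟨V, hV, hqV, s, res N hle t, hs, (gS_res hle hqV t).trans ht⟩

/-- The stalk of a tensor product. -/
theorem exists_tensorEquiv : ∃ E : (stk M q) ⊗[X.presheaf.stalk q] (stk N q) ≃ₗ[X.presheaf.stalk q]
      stk (CohB1.tensorMod M N) q,
    ∀ (V : X.Opens) (hq : q ∈ V) (s : Γ(M, V)) (t : Γ(N, V)),
      E (gS M V hq s ⊗ₜ gS N V hq t) = gS (CohB1.tensorMod M N) V hq (InvX.tmul s t) := by
  let P := CohB1.toPMod M
  let Q := CohB1.toPMod N
  haveI := KFlatLib.isIso_stalk_unitShP (x := q) (P ⊗ Q)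
  let u := (KFlatLib.stalkP q).map (KFlatLib.unitShP (P ⊗ Q))
  let ue := LinearEquiv.ofBijective u.hom (ConcreteCategory.bijective_of_isIso u)
  refine ⟨(KFlatLib.tensorStalkEquiv P Q).trans ue, fun V hq s t => ?_⟩
  show u.hom (KFlatLib.tensorStalkEquiv P Q (KFlatLib.germP P V hq s ⊗ₜ KFlatLib.germP Q V hq t)) = _
  refine (congrArg u.hom (KFlatLib.ofTensor_germ (P := P) (Q := Q) V hq s t)).trans ?_
  exact KFlatLib.stalkModMap_germ _ V hq _

theorem stk_induction {C : stk (CohB1.tensorMod M N) q → Prop} (h0 : C 0)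
    (hadd : ∀ a b, C a → C b → C (a + b))
    (htm : ∀ (V : X.Opens) (_ : IsAffineOpen V) (hq : q ∈ V) (s : Γ(M, V)) (t : Γ(N, V)),
      C (gS (CohB1.tensorMod M N) V hq (InvX.tmul s t))) (z : stk (CohB1.tensorMod M N) q) : C z := by
  obtain ⟨E, hE⟩ := exists_tensorEquiv (M := M) (N := N) (q := q)
  obtain ⟨w, rfl⟩ := E.surjective z
  induction w with
  | zero => rwa [map_zero]
  | add a b ha hb => rw [map_add]; exact hadd _ _ ha hb
  | tmul a b =>
    obtain ⟨V, hV, hqV, s, t, rfl, rfl⟩ := exists_gS_pair a b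
    rw [hE]; exact htm V hV hqV s t

theorem exists_tensorVal (Φ : Val χ M) (Ψ : Val χ N) :
    ∃ Θ : Val χ (CohB1.tensorMod M N), ∀ (V : X.Opens) (hq : q ∈ V) (s : Γ(M, V)) (t : Γ(N, V)),
      Θ.toHom (gS _ V hq (InvX.tmul s t)) = Φ.toHom (gS M V hq s) * Ψ.toHom (gS N V hq t) := by
  obtain ⟨E, hE⟩ := exists_tensorEquiv (M := M) (N := N) (q := q)
  let L : (stk M q) ⊗[X.presheaf.stalk q] (stk N q) →+ A := TensorProduct.liftAddHom
    (AddMonoidHom.mk' (fun a => (AddMonoidHom.mulLeft (Φ.toHom a)).comp Ψ.toHom) fun a a' => by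
      ext b; show (Φ.toHom (a + a')) * _ = _ * _ + _ * _; rw [map_add, add_mul])
    fun r a b => by
      show Φ.toHom (r • a) * Ψ.toHom b = Φ.toHom a * Ψ.toHom (r • b)
      rw [Φ.map_smul, Ψ.map_smul]; ring
  have hL : ∀ (c : X.presheaf.stalk q) w, L (c • w) = χ c * L w := fun c w => by
    induction w with
    | zero => simp
    | add a b ha hb => rw [smul_add, map_add, map_add, ha, hb, mul_add]
    | tmul a b =>
      rw [TensorProduct.smul_tmul']
      show Φ.toHom (c • a) * Ψ.toHom b = χ c * (Φ.toHom a * Ψ.toHom b)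
      rw [Φ.map_smul, mul_assoc]
  refine ⟨⟨L.comp E.symm.toAddEquiv.toAddMonoidHom, fun c x => ?_⟩, fun V hq s t => ?_⟩
  · show L (E.symm (c • x)) = _
    rw [map_smul, hL]; rfl
  · show L (E.symm _) = _
    rw [← hE, LinearEquiv.symm_apply_apply]; rfl

/-- Specialisation of germs. -/
theorem exists_spec {q' : X} (h : q' ⤳ q) : ∃ σ : stk M q →+ stk M q',
    ∀ (U : X.Opens) (hq : q ∈ U) (s : Γ(M, U)), σ (gS M U hq s) = gS M U (h.mem_open U.2 hq) s := by
  refine ⟨KFlatLib.descP (fun U hU => KFlatLib.germP (CohB1.toPMod M) U (h.mem_open U.2 hU))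
    (fun U V i hx s => KFlatLib.germP_res i (h.mem_open V.2 hx) s), fun U hq s => ?_⟩
  exact KFlatLib.descP_germP _ _ U hq s

end Groth.Agent.REq2
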