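import Groth.Agent.REq2.Line
import Groth.Agent.REq2.Detect
import Groth.Prelude.Def_W4c5nonratstablectREq

/-!
Tensors of forms vanish on almost R-trivial varieties.
-/

universe u

open CategoryTheory AlgebraicGeometry TopologicalSpace Opposite

namespace Groth.Agent.REq2

open Groth.Agent.H23

variable {k K : Type u} [Field k] [Field K] [Algebra k K]

/-- A rational point in a chart of the line. -/
noncomputable def cpt (j : Fin (1 + 1)) (c : K) : Spec (CommRingCat.of K) ⟶ REq.P1K K :=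
  Spec.map (CommRingCat.ofHom (Polynomial.evalRingHom c)) ≫ P1Charts.chart K j

theorem exists_cpt (a : Spec (CommRingCat.of K) ⟶ REq.P1K K) (ha : a ≫ REq.P1K.toSpec K = 𝟙 _) (j : Fin (1 + 1))
    (hj : a (IsLocalRing.closedPoint K) ∈ Set.range (P1Charts.chart K j)) : ∃ c, a = cpt j c := by
  have hr : Set.range a ⊆ Set.range (P1Charts.chart K j) := by
    rintro _ ⟨y, rfl⟩
    have : Subsingleton (Spec (CommRingCat.of K)) := inferInstanceAs (Subsingleton (PrimeSpectrum K))
    rw [Subsingleton.elim y (IsLocalRing.closedPoint K)]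
    exact hj
  let ψ := Spec.preimage (IsOpenImmersion.lift (P1Charts.chart K j) a hr)
  have hψ : Spec.map ψ ≫ P1Charts.chart K j = a := by
    simp only [ψ, Spec.map_preimage, IsOpenImmersion.lift_fac]
  have hC : CommRingCat.ofHom (Polynomial.C (R := K)) ≫ ψ = 𝟙 _ := by
    apply Spec.map_injective
    rw [Spec.map_comp, Spec.map_id, ← P1Charts.chart_toBase K j, reassoc_of% hψ, ha]
  refine ⟨ψ.hom Polynomial.X, hψ.symm.trans ?_⟩
  unfold cpt
  congr 2
  refine CommRingCat.hom_ext (Polynomial.ringHom_ext (fun r => ?_) ?_)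
  · simp only [CommRingCat.hom_ofHom, Polynomial.coe_evalRingHom, Polynomial.eval_C]
    exact RingHom.congr_fun (congrArg CommRingCat.Hom.hom hC) r
  · simp

variable {X : Scheme.{u}} (f : X ⟶ Spec (CommRingCat.of k)) [IsProper f] {i : ℕ} {L : X.Modules}
  (φ : ∀ U : X.affineOpens, (L.val.obj (op U.1)) ≃ₗ[Γ(X, U.1)]
    ↥(⋀[Γ(X, U.1)]^i ((Omega.sheaf f).val.obj (op U.1))))
  (hφ : PhiComp f φ) {m : ℕ} (s : Γ(CohB1.tensorPow L m, ⊤)) (D : ℕ → Fin i → Derivation k K K)

theorem ptVal_congr {x x' : Spec (CommRingCat.of K) ⟶ X} (e : x = x')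
    (hx : x ≫ f = Spec.map (CommRingCat.ofHom (algebraMap k K)))
    (hx' : x' ≫ f = Spec.map (CommRingCat.ofHom (algebraMap k K))) :
    ptVal f x φ hφ s hx D = ptVal f x' φ hφ s hx' D := by subst e; rfl

theorem chart_pair (U : (REq.P1K K).Opens) (h : (U : Scheme.{u}) ⟶ X)
    (hh : h ≫ f = U.ι ≫ REq.P1K.toSpec K ≫ REq.specMap k K) (j : Fin (1 + 1)) (c₀ c₁ : K)
    (p₀ p₁ : Spec (CommRingCat.of K) ⟶ (U : Scheme.{u})) (h₀ : p₀ ≫ U.ι = cpt j c₀) (h₁ : p₁ ≫ U.ι = cpt j c₁)
    (hx₀ : (p₀ ≫ h) ≫ f = Spec.map (CommRingCat.ofHom (algebraMap k K)))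
    (hx₁ : (p₁ ≫ h) ≫ f = Spec.map (CommRingCat.ofHom (algebraMap k K))) :
    ptVal f (p₀ ≫ h) φ hφ s hx₀ D = ptVal f (p₁ ≫ h) φ hφ s hx₁ D := by
  let σ : Polynomial K →+* Polynomial K :=
    Polynomial.eval₂RingHom Polynomial.C (Polynomial.C c₀ + Polynomial.X * Polynomial.C (c₁ - c₀))
  let T : Spec (CommRingCat.of (Polynomial K)) ⟶ REq.P1K K := Spec.map (CommRingCat.ofHom σ) ≫ P1Charts.chart K j
  let W : (Spec (CommRingCat.of (Polynomial K))).Opens := T ⁻¹ᵁ U
  have hev : ∀ t c : K, c₀ + t * (c₁ - c₀) = c →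
      Spec.map (CommRingCat.ofHom (Polynomial.evalRingHom t)) ≫ T = cpt j c := by
    intro t c e
    rw [← Category.assoc, ← Spec.map_comp]
    unfold cpt
    congr 2
    refine CommRingCat.hom_ext (Polynomial.ringHom_ext (fun r => ?_) ?_)
    · simp [σ]
    · simp [σ, e]
  have hlift : ∀ (t c : K) (p : Spec (CommRingCat.of K) ⟶ (U : Scheme.{u})), c₀ + t * (c₁ - c₀) = c →
      p ≫ U.ι = cpt j c → ∃ q : Spec (CommRingCat.of K) ⟶ W.toScheme,
        q ≫ W.ι = Spec.map (CommRingCat.ofHom (Polynomial.evalRingHom t)) ∧ q ≫ (T ∣_ U) ≫ h = p ≫ h := by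
    intro t c p e hp
    have hr : Set.range (Spec.map (CommRingCat.ofHom (Polynomial.evalRingHom t))) ⊆ Set.range W.ι := by
      rw [Scheme.Opens.range_ι]
      rintro _ ⟨y, rfl⟩
      show T _ ∈ U
      rw [← Scheme.Hom.comp_apply, hev t c e, ← hp]
      exact (p y).2
    refine ⟨IsOpenImmersion.lift W.ι _ hr, IsOpenImmersion.lift_fac _ _ _, ?_⟩
    rw [← Category.assoc]
    congr 1
    rw [← cancel_mono U.ι, Category.assoc, morphismRestrict_ι, IsOpenImmersion.lift_fac_assoc, hev t c e, hp]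
  obtain ⟨q₀, hq₀, hq₀'⟩ := hlift 0 c₀ p₀ (by ring) h₀
  obtain ⟨q₁, hq₁, hq₁'⟩ := hlift 1 c₁ p₁ (by ring) h₁
  have hW : (W : Set (Spec (CommRingCat.of (Polynomial K)))).Nonempty :=
    ⟨_, (q₀ (IsLocalRing.closedPoint K)).2⟩
  have hg : ((T ∣_ U) ≫ h) ≫ f = W.ι ≫ Spec.map (CommRingCat.ofHom (algebraMap k (Polynomial K))) := by
    rw [Category.assoc, hh, morphismRestrict_ι_assoc]
    congr 1
    show (Spec.map (CommRingCat.ofHom σ) ≫ P1Charts.chart K j) ≫ CohB1.ProjSpaceOver.toBase 1 _ ≫ _ = _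
    rw [Category.assoc, reassoc_of% (P1Charts.chart_toBase K j), ← Spec.map_comp, ← Spec.map_comp]
    congr 1
    refine CommRingCat.hom_ext (RingHom.ext fun r => ?_)
    show σ (Polynomial.C (algebraMap k K r)) = Polynomial.C (algebraMap k K r)
    simp [σ]
  obtain ⟨v, hv⟩ := line_core f φ hφ s D W ((T ∣_ U) ≫ h) hg hW
  have e₀ := hv 0 (fun a l => map_zero _) q₀ hq₀ (by rw [hq₀']; exact hx₀)
  have e₁ := hv 1 (fun a l => Derivation.map_one_eq_zero _) q₁ hq₁ (by rw [hq₁']; exact hx₁)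
  rw [ptVal_congr f φ hφ s D hq₀' _ hx₀] at e₀
  rw [ptVal_congr f φ hφ s D hq₁' _ hx₁] at e₁
  rw [e₀, e₁]

theorem elemLink_eq [Infinite K] (A B : REq.Pts f K) (hl : REq.ElemLink f K A B) :
    ptVal f A.1 φ hφ s A.2 D = ptVal f B.1 φ hφ s B.2 D := by
  obtain ⟨U, h, a, b, hh, ha, hb, hA, hB⟩ := hl
  have hx : ∀ p : Spec (CommRingCat.of K) ⟶ (U : Scheme.{u}), p ≫ U.ι ≫ REq.P1K.toSpec K = 𝟙 _ →
      (p ≫ h) ≫ f = Spec.map (CommRingCat.ofHom (algebraMap k K)) := fun p hp => by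
    rw [Category.assoc, hh, reassoc_of% hp]
  obtain ⟨ja, ya, hya⟩ := P1Charts.exists_chart K ((a ≫ U.ι) (IsLocalRing.closedPoint K))
  obtain ⟨jb, yb, hyb⟩ := P1Charts.exists_chart K ((b ≫ U.ι) (IsLocalRing.closedPoint K))
  obtain ⟨ca, hca⟩ := exists_cpt (a ≫ U.ι) (by rw [Category.assoc, ha]) ja ⟨ya, hya⟩
  obtain ⟨cb, hcb⟩ := exists_cpt (b ≫ U.ι) (by rw [Category.assoc, hb]) jb ⟨yb, hyb⟩
  -- a rational point of U in both charts
  let O : (Spec (CommRingCat.of (Polynomial K))).Opens :=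
    P1Charts.chart K ja ⁻¹ᵁ (U ⊓ (P1Charts.chart K jb).opensRange)
  have hgen : genericPoint (Spec (CommRingCat.of (Polynomial K))) ∈ O := by
    show P1Charts.chart K ja _ ∈ U ⊓ (P1Charts.chart K jb).opensRange
    rw [genericPoint_eq_of_isOpenImmersion]
    exact ⟨RatExtend.genericPoint_mem U (a (IsLocalRing.closedPoint K)).2,
      RatExtend.genericPoint_mem _ (show P1Charts.chart K jb yb ∈ (P1Charts.chart K jb).opensRange from ⟨yb, rfl⟩)⟩
  obtain ⟨_, ⟨p, rfl⟩, hp, hpO⟩ := PrimeSpectrum.isTopologicalBasis_basic_opens.exists_subset_of_mem_open hgen O.2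
  have hp0 : p ≠ 0 := fun h0 => hp (by rw [h0]; exact zero_mem _)
  obtain ⟨e, he⟩ : ∃ e : K, p.eval e ≠ 0 := by
    by_contra! hall
    exact hp0 (Polynomial.funext fun c => by rw [hall c, Polynomial.eval_zero])
  have heO : ∀ z, cpt ja e z ∈ U ⊓ (P1Charts.chart K jb).opensRange := fun z => hpO (show
    Spec.map (CommRingCat.ofHom (Polynomial.evalRingHom e)) z ∈ _ from fun hm =>
      z.2.ne_top (Ideal.eq_top_of_isUnit_mem _ hm (isUnit_iff_ne_zero.2 he)))
  let pe : Spec (CommRingCat.of K) ⟶ (U : Scheme.{u}) :=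
    IsOpenImmersion.lift U.ι (cpt ja e) (by rw [Scheme.Opens.range_ι]; rintro _ ⟨z, rfl⟩; exact (heO z).1)
  have hpe : pe ≫ U.ι = cpt ja e := IsOpenImmersion.lift_fac _ _ _
  have hsec : cpt ja e ≫ REq.P1K.toSpec K = 𝟙 _ := by
    show (Spec.map _ ≫ P1Charts.chart K ja) ≫ CohB1.ProjSpaceOver.toBase 1 _ = _
    rw [Category.assoc, P1Charts.chart_toBase, ← Spec.map_comp,
      show CommRingCat.ofHom (Polynomial.C (R := K)) ≫ CommRingCat.ofHom (Polynomial.evalRingHom e) = 𝟙 _ by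
        ext r; simp, Spec.map_id]
  obtain ⟨e', he'⟩ := exists_cpt (cpt ja e) hsec jb (heO (IsLocalRing.closedPoint K)).2
  have hxe := hx pe (by rw [reassoc_of% hpe, hsec])
  rw [ptVal_congr f φ hφ s D hA.symm A.2 (hx a ha), ptVal_congr f φ hφ s D hB.symm B.2 (hx b hb)]
  exact (chart_pair f φ hφ s D U h hh ja ca e a pe hca hpe (hx a ha) hxe).trans
    (chart_pair f φ hφ s D U h hh jb e' cb pe b (hpe.trans he') hcb hxe (hx b hb))

theorem rEquiv_eq [Infinite K] (A B : REq.Pts f K) (hl : REq.REquiv f K A B) :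
    ptVal f A.1 φ hφ s A.2 D = ptVal f B.1 φ hφ s B.2 D := by
  induction hl with
  | rel A B h => exact elemLink_eq f φ hφ s D A B h
  | refl A => rfl
  | symm A B _ h => exact h.symm
  | trans A B C _ _ h h' => exact h.trans h'

omit [Algebra k K] in
include hφ in
theorem vanish [Infinite k] [IsIntegral X] [Smooth f] (hR : REq.IsAlmostRTrivial f) (hi : 0 < i)
    (m' : ℕ) (t : Γ(CohB1.tensorPow L (m' + 1), ⊤)) : t = 0 := by
  obtain ⟨U, hU, hpts⟩ := hR
  let R : Type u := X.presheaf.stalk (genericPoint X)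
  letI : Algebra k X.functionField := ((X.presheaf.germ ⊤ (genericPoint X) trivial).hom.comp (cst f ⊤)).toAlgebra
  haveI : Infinite X.functionField := Infinite.of_injective _ (algebraMap k X.functionField).injective
  obtain ⟨⟨A₀, hA₀U⟩, -⟩ := hpts k
  obtain ⟨-, hall⟩ := hpts X.functionField
  -- the generic point
  let η : Spec (CommRingCat.of X.functionField) ⟶ X := X.fromSpecStalk (genericPoint X)
  have hη : η ≫ f = REq.specMap k X.functionField := fromSpecStalk_comp f (genericPoint X)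
  have hηU : REq.InOpen f U ⟨η, hη⟩ := by
    rintro _ ⟨y, rfl⟩
    have h1 : η y ⤳ η y := specializes_rfl
    have h2 : genericPoint X ∈ U := RatExtend.genericPoint_mem U hU.nonempty.choose_spec
    have h3 : η y ⤳ genericPoint X := by
      have hy : y = IsLocalRing.closedPoint X.functionField := by
        have : Subsingleton (Spec (CommRingCat.of X.functionField)) :=
          inferInstanceAs (Subsingleton (PrimeSpectrum X.functionField))
        exact Subsingleton.elim _ _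
      rw [hy]
      exact specializes_of_eq Scheme.fromSpecStalk_closedPoint
    exact h3.mem_open U.2 h2
  let x₀ : Spec (CommRingCat.of X.functionField) ⟶ X := REq.specMap k X.functionField ≫ A₀.1
  have hx₀ : x₀ ≫ f = REq.specMap k X.functionField := by
    rw [Category.assoc, A₀.2, ← Spec.map_comp]
    congr 1
  have hx₀U : REq.InOpen f U ⟨x₀, hx₀⟩ := by
    rintro _ ⟨y, rfl⟩
    exact hA₀U ⟨_, rfl⟩
  have hzero : ∀ D : ℕ → Fin i → Derivation k X.functionField X.functionField,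
      ptVal f η φ hφ t hη D = 0 := fun D => by
    refine (rEquiv_eq f φ hφ t D ⟨η, hη⟩ ⟨x₀, hx₀⟩ (hall _ _ hηU hx₀U)).trans ?_
    refine (map_ptVal f A₀.1 φ hφ t (algebraMap k X.functionField) x₀ rfl A₀.2 hx₀ (fun _ _ => 0) D
      fun a l y => by
        rw [Derivation.zero_apply, map_zero]
        exact Derivation.map_algebraMap _ y).trans ?_
    rw [ptVal, powVal_eq_zero f φ hφ _ hi m' _ (fun _ => rfl), map_zero]
  have hgerm : ∀ q : X, gS (CohB1.tensorPow L (m' + 1)) ⊤ (q := q) trivial t = 0 := fun q => by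
    have hχ : OverK f (chiGen q) := overK_gen f (fun c => rfl) q
    refine detect f φ hφ q hχ (m' + 1) _ fun D => ?_
    have hsp : η (IsLocalRing.closedPoint X.functionField) ⤳ q :=
      (specializes_of_eq Scheme.fromSpecStalk_closedPoint).trans (genericPoint_specializes q)
    have hh : ∀ c, ptChi η (X.presheaf.stalkSpecializes hsp c) = RingHom.id _ (chiGen q c) := by
      have : X.presheaf.stalkSpecializes hsp ≫ CommRingCat.ofHom (ptChi η) = CommRingCat.ofHom (chiGen q) := by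
        apply Spec.map_injective
        rw [← cancel_mono (X.fromSpecStalk q), Spec.map_comp, Category.assoc,
          Scheme.SpecMap_stalkSpecializes_fromSpecStalk]
        exact (ptChi_spec η).trans (Scheme.SpecMap_stalkSpecializes_fromSpecStalk (genericPoint_specializes q)).symm
      exact fun c => RingHom.congr_fun (congrArg CommRingCat.Hom.hom this) c
    have := powVal_spec f φ hsp (RingHom.id _) hh hφ hχ (overK_ptChi f η hη) (m' + 1) D D (fun a l y => rfl)
      ⊤ trivial t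
    exact this.symm.trans (hzero D)
  refine AModX.eq_of_locally _ _ fun p _ => ?_
  obtain ⟨W, hW, i₁, i₂, hi₁⟩ := TopCat.Presheaf.germ_eq (C := AddCommGrpCat.{u})
    (CohB1.toPMod (CohB1.tensorPow L (m' + 1))).presheaf p (show p ∈ (⊤ : X.Opens) from trivial)
    (show p ∈ (⊤ : X.Opens) from trivial) t 0 ((hgerm p).trans (map_zero _).symm)
  exact ⟨W, i₁.le, hW, hi₁⟩

end Groth.Agent.REq2
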